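import Groth.Prelude.Def_EtCore
import Groth.Agent.Sga4B.ConstLC

/-!
# Connectedness from `H⁰(X, M) ≃ M`

(as in `Groth.Agent.Sga7.H747.NearbySmooth`, with fewer imports)
-/

set_option autoImplicit false
universe u
open CategoryTheory CategoryTheory.Limits AlgebraicGeometry Opposite

namespace Groth.Agent.Sga7.H748.Conn

/-- `H⁰(X, M)` is the group of locally constant functions with values in `M`. -/
noncomputable def H0const (X : Scheme.{u}) (M : Type) [AddCommGroup M] :
    EtCoh.H X (EtCoh.const X M) 0 ≃+ LocallyConstant X (ULift.{u + 1} M) :=
  AddEquiv.trans (Sheaf.H.equiv₀ _ (EtCore.topIsTerminal X))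
    (((sheafToPresheaf _ _).mapIso (Groth.Agent.Sga4B.ConstLC.constIso X M)).app
      (op (EtCoh.top X))).addCommGroupIsoToAddEquiv

/-- A topological space on which there are as many locally constant functions with values in a
finite nontrivial set as there are elements of that set is connected. -/
theorem connectedSpace_of_locallyConstant {T : Type*} [TopologicalSpace T] {M : Type*} [Finite M]
    [Nontrivial M] (e : LocallyConstant T M ≃ M) : ConnectedSpace T := by
  classical
  obtain ⟨a, b, hab⟩ := exists_pair_ne M
  have hne : Nonempty T := by
    by_contra hn
    rw [not_nonempty_iff] at hn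
    have h1 : Subsingleton (LocallyConstant T M) := ⟨fun f g => by ext x; exact hn.elim x⟩
    have h2 : Subsingleton M := e.symm.subsingleton
    exact hab (Subsingleton.elim a b)
  have hinj : Function.Injective (fun c : M => e (LocallyConstant.const T c)) := by
    intro c d hcd
    exact DFunLike.congr_fun (e.injective hcd) (Classical.arbitrary T)
  have hs := Finite.surjective_of_injective hinj
  have hpre : PreconnectedSpace T := by
    rw [preconnectedSpace_iff_clopen]
    intro s hs'
    let f : LocallyConstant T M := (LocallyConstant.ofIsClopen hs').map (fun i => if i = 0 then a else b)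
    obtain ⟨c, hc⟩ := hs (e f)
    have hf : LocallyConstant.const T c = f := e.injective hc
    have hval : ∀ x, c = if x ∈ s then a else b := by
      intro x
      have h1 : c = f x := DFunLike.congr_fun hf x
      rw [h1]
      change (if (LocallyConstant.ofIsClopen hs') x = 0 then a else b) = _
      have h2 : (LocallyConstant.ofIsClopen hs') x = 0 ↔ x ∈ s := by
        have h3 := LocallyConstant.ofIsClopen_fiber_zero hs'
        exact Set.ext_iff.1 h3 x
      simp only [h2]
    by_cases hx : (Classical.arbitrary T) ∈ s
    · right
      ext x
      simp only [Set.mem_univ, iff_true]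
      by_contra hxs
      have h1 := hval x
      have h2 := hval (Classical.arbitrary T)
      rw [if_neg hxs] at h1
      rw [if_pos hx] at h2
      exact hab (h2.symm.trans h1)
    · left
      ext x
      simp only [Set.mem_empty_iff_false, iff_false]
      intro hxs
      have h1 := hval x
      have h2 := hval (Classical.arbitrary T)
      rw [if_pos hxs] at h1
      rw [if_neg hx] at h2
      exact hab (h1.symm.trans h2)
  exact { toNonempty := hne }

/-- If `H⁰(X, M) ≃ M` for a finite nontrivial group `M`, then `X` is connected. -/
theorem connectedSpace_of_H0 (X : Scheme.{u}) (M : Type) [AddCommGroup M] [Finite M] [Nontrivial M]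
    (h : Nonempty (EtCoh.H X (EtCoh.const X M) 0 ≃+ M)) : ConnectedSpace X := by
  obtain ⟨e⟩ := h
  exact connectedSpace_of_locallyConstant (M := ULift.{u + 1} M)
    ((H0const X M).symm.toEquiv.trans (e.toEquiv.trans Equiv.ulift.symm))

end Groth.Agent.Sga7.H748.Conn
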