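import Groth.Agent.Sga7.H748.Surj
import Groth.Agent.Sga7.H748.Conn
import Groth.Agent.Sga7.H77.Decomp
import Groth.Agent.Sga7.H77.HSigma
import Groth.Agent.Etrest.SHPoint

/-!
# The structure of `Spec A ×_V Ω`

`A` a `V`-algebra with `π = ∏ T_i ^ m_i` in `A` such that `Spec A ×_{k[ℕ^C]} k[ℚ^C]` has the cohomology of
a point: `Spec A ×_V Ω` is the disjoint union of `g = gcd m` copies of a connected scheme with the
cohomology of `G_m^r`.
-/

set_option autoImplicit false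
universe u
open CategoryTheory CategoryTheory.Limits AlgebraicGeometry Opposite Abelian
open scoped Groth.Agent.Etcore.EtInst
open Groth.Agent.Etcore.EtInst

namespace Groth.Agent.Sga7.H748.Struct

open Groth.Agent.Etcore Groth.Agent.Etcore.HpullCalc
open Groth.Agent.Sga7.H763.HIso Groth.Agent.Sga7.H763.Pt
open Groth.Agent.Sga7.H763.Dia Groth.Agent.Sga7.H763.ToD Groth.Agent.Sga7.H763.GmPow
open Groth.Agent.Sga4h.StalkAcyc Groth.Agent.Sga4h.Acyc
open Groth.Agent.Sga7.H748.Lattice Groth.Agent.Sga7.H748.Local Groth.Agent.Sga7.H748.Geo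
open Groth.Agent.Sga7.H748.Glue Groth.Agent.Sga7.H748.Surj

/-- The spectrum of a separably closed field has the cohomology of a point. -/
theorem hpt_sepClosed (k : Type u) [Field k] [IsSepClosed k] (n : ℕ) :
    HPt (Spec (CommRingCat.of k)) n := by
  refine ⟨fun q hq => Groth.Agent.Etrest.SHPoint.subsingleton_H_of_sepClosed k _ q hq, ?_⟩
  have : ConnectedSpace (Spec (CommRingCat.of k)) :=
    inferInstanceAs (ConnectedSpace (PrimeSpectrum k))
  exact Groth.Agent.Etrest.SHPoint.nonempty_H0_const _ _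

/-- `(Fin g → Fin c → M) = (Fin (g * c) → M)` -/
def curryFin (g c : ℕ) (M : Type) [AddCommMonoid M] : (Fin g → Fin c → M) ≃+ (Fin (g * c) → M) :=
  { (Equiv.curry (Fin g) (Fin c) M).symm.trans (Equiv.arrowCongr finProdFinEquiv (Equiv.refl M)) with
    map_add' := fun _ _ => rfl }

/-- over a single character -/
theorem nonempty_H_zz {k : Type u} [Field k] [IsSepClosed k] {n : ℕ} (Cx : Ctx k n) {r : ℕ}
    {Y : Scheme.{u}} (z : Y ⟶ D k (Fin r → ℤ)) (h : HC n z) (q : ℕ) :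
    Nonempty (EtCoh.H Y (EtCoh.const Y (ZMod n)) q ≃+ (Fin (r.choose q) → ZMod n)) := by
  obtain ⟨e⟩ := nonempty_equiv h q
  obtain ⟨e'⟩ := H_pow Cx (hpt_sepClosed k n) r q
  exact ⟨e.trans e'⟩

theorem connectedSpace_zz {k : Type u} [Field k] [IsSepClosed k] (Cx : Ctx k 2) {r : ℕ}
    {Y : Scheme.{u}} (z : Y ⟶ D k (Fin r → ℤ)) (h : HC 2 z) : ConnectedSpace Y := by
  refine Conn.connectedSpace_of_H0 Y (ZMod 2) ?_
  obtain ⟨e⟩ := nonempty_H_zz Cx z h 0
  rw [Nat.choose_zero_right] at e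
  exact ⟨AddEquiv.trans e (AddEquiv.funUnique (Fin 1) (ZMod 2))⟩

variable {V K Ω : Type u} [CommRing V] [Field K] [Algebra V K] [Field Ω] [Algebra K Ω]
  {k : Type u} [Field k] [IsAlgClosed k] [CharZero k] [Algebra k V]
  (π : V) {b : Spec (CommRingCat.of Ω) ⟶ D k ℚ}

theorem struct_local
    (hb : IsPullback (cO V K Ω) b (toD k (pw π)) (Dm k (Nat.castAddMonoidHom ℚ)))
    (Cx : ∀ n : ℕ, 0 < n → Ctx k n) {A : Type u} [CommRing A] [Algebra V A] [Algebra k A]
    [IsScalarTower k V A] {r : ℕ} {C : Type} [Fintype C] (T : C → A) (m : C → ℕ)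
    (hm : ∀ i, 0 < m i) (hπ : ∏ i, T i ^ m i = algebraMap V A π)
    (hE : ∀ n : ℕ, 0 < n → HPt (EA k T) n)
    (bs : Module.Basis (Fin (r + 1)) ℤ (C → ℤ)) (g : ℕ) (hg : 0 < g)
    (hbs : (fun i => (m i : ℤ)) = (g : ℤ) • bs 0)
    (c : Spec (CommRingCat.of A) ⟶ Spec (CommRingCat.of V))
    (hc : c = Spec.map (CommRingCat.ofHom (algebraMap V A))) :
    Nat.card (_root_.ConnectedComponents ↥(pullback c (cO V K Ω))) = g ∧
      ∀ n : ℕ, 0 < n → ∀ q : ℕ, Nonempty (EtCoh.H (pullback c (cO V K Ω))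
        (EtCoh.const (pullback c (cO V K Ω)) (ZMod n)) q ≃+ (Fin (g * r.choose q) → ZMod n)) := by
  have e1 : c ≫ toD k (pw π) = toD k (pw (∏ i, T i ^ m i)) := by
    rw [hc, hπ]
    refine (map_toD k (IsScalarTower.toAlgHom k V A) (pw π)).trans ?_
    congr 1
    ext
    simp
  have hZ := sqZ k T m hm
  rw [← e1] at hZ
  let uL := pullback.snd (tA k T) (Dm k (nzC C))
  have hv : vv bs uL ≫ Dm k (AddMonoidHom.mulLeft (g : ℤ)) = uL ≫ Dm k (muZ m) := vv_pow bs uL m g hbs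
  have i1 : IsAffine (ZA k T) := isAffine_of_isAffineHom (pullback.fst (tA k T) (Dm k (nzC C)))
  have H : ∀ n : ℕ, 0 < n → HC n (pullback.fst (vv bs uL) (Dm k (Int.castAddHom ℚ)) ≫ zz bs uL) :=
    fun n hn => hC_zz bs uL (Cx n hn) (isPullback_EA k T) (hE n hn)
  have sY := isPullback_yZ π hb c hZ
  have sY1 : IsPullback (yZ π hb c hZ) (pullback.snd c (cO V K Ω) ≫ b)
      (vv bs uL ≫ Dm k (AddMonoidHom.mulLeft (g : ℤ))) (Dm k (Int.castAddHom ℚ)) := by
    rw [hv]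
    exact sY
  obtain ⟨e2⟩ := Groth.Agent.Sga7.H77.Decomp.decomp k g hg (vv bs uL)
  let e : pullback c (cO V K Ω) ≅ ∐ fun _ : Fin g => pullback (vv bs uL) (Dm k (Int.castAddHom ℚ)) :=
    sY1.isoPullback ≪≫ e2
  constructor
  · have := connectedSpace_zz (Cx 2 two_pos) _ (H 2 two_pos)
    exact Groth.Agent.Sga7.H77.HSigma.card_sigma e
  · intro n hn q
    obtain ⟨e3⟩ := Groth.Agent.Sga7.H77.HSigma.H_sigma n q e
    obtain ⟨e4⟩ := nonempty_H_zz (Cx n hn) _ (H n hn) q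
    exact ⟨(e3.trans (AddEquiv.piCongrRight fun _ => e4)).trans (curryFin g (r.choose q) (ZMod n))⟩

end Groth.Agent.Sga7.H748.Struct
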