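import Groth.Agent.Sga7.H748.LocData
import Groth.Agent.Sga7.H748.Struct

/-!
# S4083 and the local part of S4068 from the two remaining inputs
-/

set_option autoImplicit false
universe u
open CategoryTheory CategoryTheory.Limits AlgebraicGeometry Opposite Abelian
open scoped Groth.Agent.Etcore.EtInst
open Groth.Agent.Etcore.EtInst

namespace Groth.Agent.Sga7.H748.Asm

open Groth.Agent.Etcore Groth.Agent.Etcore.HpullCalc
open Groth.Agent.Sga7.H763.Dia Groth.Agent.Sga7.H763.ToD Groth.Agent.Sga7.H763.GmPow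
open Groth.Agent.Sga4h.StalkAcyc
open Groth.Agent.Sga7.H748.Geo Groth.Agent.Sga7.H748.Surj Groth.Agent.Sga7.H748.Struct
open Groth.Agent.Sga7.H748.LocData

/-- Input (i). -/
def CtxAll : Prop :=
  ∀ (k : Type u) [Field k] [IsAlgClosed k] [CharZero k] (n : ℕ), 0 < n → Ctx k n

/-- Input (ii): the scheme obtained from a strictly henselian regular local ring by inverting and
extracting all the roots of a part of a regular system of parameters is acyclic. -/
def Tower : Prop :=
  ∀ (k : Type u) [Field k] [IsAlgClosed k] [CharZero k] (A : Type u) [CommRing A]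
    [IsRegularLocalRing A] [HenselianLocalRing A] [IsSepClosed (IsLocalRing.ResidueField A)]
    [Algebra k A] (c d : ℕ) (T : Fin c → A) (S : Fin d → A),
    Ideal.span (Set.range T ∪ Set.range S) = IsLocalRing.maximalIdeal A →
    ringKrullDim A = ((c + d : ℕ) : WithBot ℕ∞) → ∀ n : ℕ, 0 < n →
      HPt (pullback (toD k (mpw T)) (Dm k ((Nat.castAddMonoidHom ℚ).compLeft (Fin c)))) n

theorem gcd_equiv {A B : Type} [Fintype A] [Fintype B] (e : A ≃ B) (m : B → ℕ) :
    (Finset.univ : Finset A).gcd (fun i => m (e i)) = (Finset.univ : Finset B).gcd m := by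
  apply Nat.dvd_antisymm
  · refine Finset.dvd_gcd fun b _ => ?_
    have := Finset.gcd_dvd (f := fun i => m (e i)) (Finset.mem_univ (e.symm b))
    rwa [Equiv.apply_symm_apply] at this
  · exact Finset.dvd_gcd fun a _ => Finset.gcd_dvd (Finset.mem_univ (e a))

theorem gcd_pos {A : Type} [Fintype A] [Nonempty A] (m : A → ℕ) (hm : ∀ i, 0 < m i) :
    0 < (Finset.univ : Finset A).gcd m :=
  Nat.pos_of_dvd_of_pos (Finset.gcd_dvd (Finset.mem_univ (Classical.arbitrary A))) (hm _)

theorem pullback_congr {S T P : Scheme.{u}} {c c' : T ⟶ S} {d d' : P ⟶ S} (e : c = c') (e' : d = d')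
    (Q : Scheme.{u} → Prop) (h : Q (pullback c' d')) : Q (pullback c d) := by
  subst e e'
  exact h

open Classical in
/-- S4083 from (i) and (ii). -/
theorem struct_of (hctx : CtxAll.{u}) (htow : Tower.{u}) (V K Ω : Type u) [CommRing V] [IsDomain V]
    [IsDiscreteValuationRing V] [HenselianLocalRing V] [IsSepClosed (IsLocalRing.ResidueField V)]
    [CharZero (IsLocalRing.ResidueField V)] [Field K] [Algebra V K] [IsFractionRing V K]
    [Field Ω] [Algebra K Ω] [IsSepClosure K Ω] [Algebra V Ω] [IsScalarTower V K Ω]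
    {X : Scheme.{u}} (f : X ⟶ Spec (CommRingCat.of V))
    (hreg : ∀ x : ↥X, IsRegularLocalRing ↑(X.presheaf.stalk x))
    {J : Type} [Fintype J] (ξ : J → ↥X) (m : J → ℕ) (hm : ∀ i, 0 < m i)
    (x : ↥X) (hx : f.base x = IsLocalRing.closedPoint V)
    (hsnc : ∃ t : {i : J // ξ i ⤳ x} → ↑(X.presheaf.stalk x),
        (∃ (k : ℕ) (s : Fin k → ↑(X.presheaf.stalk x)),
          Ideal.span (Set.range t ∪ Set.range s) = IsLocalRing.maximalIdeal ↑(X.presheaf.stalk x) ∧
          ((Nat.card {i : J // ξ i ⤳ x} + k : ℕ) : WithBot ℕ∞) = ringKrullDim ↑(X.presheaf.stalk x)) ∧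
        (∀ i : {i : J // ξ i ⤳ x}, ∃ P : PrimeSpectrum ↑(X.presheaf.stalk x),
          (X.fromSpecStalk x).base P = ξ i.1 ∧ P.asIdeal = Ideal.span {t i}) ∧
        Ideal.map (f.stalkMap x).hom (IsLocalRing.maximalIdeal ↑((Spec (CommRingCat.of V)).presheaf.stalk (f.base x))) =
          Ideal.span {∏ i : {i : J // ξ i ⤳ x}, t i ^ m i.1})
    (Osh : Type u) [CommRing Osh] [IsLocalRing Osh] [Algebra ↑(X.presheaf.stalk x) Osh]
    [IsLocalHom (algebraMap ↑(X.presheaf.stalk x) Osh)]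
    [Hensel.IsStrictHenselization ↑(X.presheaf.stalk x) Osh] :
    Nat.card (_root_.ConnectedComponents ↥(SGA7.nearbyFibre f x Osh Ω)) =
      (Finset.univ : Finset {i : J // ξ i ⤳ x}).gcd (fun i => m i.1) ∧
      ∀ n : ℕ, 0 < n → ∀ q : ℕ, Nonempty (EtCoh.H (SGA7.nearbyFibre f x Osh Ω)
        (EtCoh.const (SGA7.nearbyFibre f x Osh Ω) (ZMod n)) q ≃+
        (Fin ((Finset.univ : Finset {i : J // ξ i ⤳ x}).gcd (fun i => m i.1) *
          Nat.choose (Nat.card {i : J // ξ i ⤳ x} - 1) q) → ZMod n)) := by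
  obtain ⟨k, _, _, _, _, π, b, hb, _, _, _, r, d, e, T, S, h1, h2, h3, h4, h5⟩ :=
    exists_data V K Ω f hreg ξ m hm x hx hsnc Osh
  have hO : HenselianLocalRing Osh := Hensel.IsStrictHenselization.henselian ↑(X.presheaf.stalk x)
  have hs : IsSepClosure (IsLocalRing.ResidueField ↑(X.presheaf.stalk x))
    (IsLocalRing.ResidueField Osh) := Hensel.IsStrictHenselization.isSepClosure
  have : IsSepClosed (IsLocalRing.ResidueField Osh) :=
    IsSepClosure.sep_closed (IsLocalRing.ResidueField ↑(X.presheaf.stalk x))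
  have hcard : Nat.card {i : J // ξ i ⤳ x} = r + 1 := by
    rw [← Nat.card_congr e, Nat.card_fin]
  obtain ⟨bs, hbs⟩ := Groth.Agent.Sga7.H397.LatBasis.exists_basis (Fin (r + 1))
    (fun i => m (e i).1) (fun i => hm _) r (Fintype.card_fin _)
  have hg := gcd_equiv e (fun i => m i.1)
  have hpos := gcd_pos (fun i => m (e i).1) (fun i => hm _)
  rw [← hg, hcard, Nat.add_sub_cancel]
  refine pullback_congr (Category.assoc _ _ _).symm (?_ : _ = cO V K Ω) (fun Y =>
    Nat.card (_root_.ConnectedComponents ↥Y) =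
      (Finset.univ : Finset (Fin (r + 1))).gcd (fun i => m (e i).1) ∧
      ∀ n : ℕ, 0 < n → ∀ q : ℕ, Nonempty (EtCoh.H Y (EtCoh.const Y (ZMod n)) q ≃+
        (Fin ((Finset.univ : Finset (Fin (r + 1))).gcd (fun i => m (e i).1) *
          Nat.choose r q) → ZMod n))) ?_
  · rw [cO, IsScalarTower.algebraMap_eq V K Ω]
  · exact struct_local π hb (hctx k) T _ (fun i => hm _) h4
      (fun n hn => htow k Osh (r + 1) d T S h2 h3 n hn) bs _ hpos hbs _ h5

open Classical in
/-- The surjectivity used in S4068, from (i) and (ii). -/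
theorem surj_of (hctx : CtxAll.{u}) (htow : Tower.{u}) (V K Ω : Type u) [CommRing V] [IsDomain V]
    [IsDiscreteValuationRing V] [HenselianLocalRing V] [IsSepClosed (IsLocalRing.ResidueField V)]
    [CharZero (IsLocalRing.ResidueField V)] [Field K] [Algebra V K] [IsFractionRing V K]
    [Field Ω] [Algebra K Ω] [IsSepClosure K Ω]
    {X : Scheme.{u}} (f : X ⟶ Spec (CommRingCat.of V))
    (hreg : ∀ x : ↥X, IsRegularLocalRing ↑(X.presheaf.stalk x))
    {J : Type} [Fintype J] (ξ : J → ↥X) (m : J → ℕ) (hm : ∀ i, 0 < m i)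
    (x : ↥X) (hx : f.base x = IsLocalRing.closedPoint V)
    (hsnc : ∃ t : {i : J // ξ i ⤳ x} → ↑(X.presheaf.stalk x),
        (∃ (k : ℕ) (s : Fin k → ↑(X.presheaf.stalk x)),
          Ideal.span (Set.range t ∪ Set.range s) = IsLocalRing.maximalIdeal ↑(X.presheaf.stalk x) ∧
          ((Nat.card {i : J // ξ i ⤳ x} + k : ℕ) : WithBot ℕ∞) = ringKrullDim ↑(X.presheaf.stalk x)) ∧
        (∀ i : {i : J // ξ i ⤳ x}, ∃ P : PrimeSpectrum ↑(X.presheaf.stalk x),
          (X.fromSpecStalk x).base P = ξ i.1 ∧ P.asIdeal = Ideal.span {t i}) ∧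
        Ideal.map (f.stalkMap x).hom (IsLocalRing.maximalIdeal ↑((Spec (CommRingCat.of V)).presheaf.stalk (f.base x))) =
          Ideal.span {∏ i : {i : J // ξ i ⤳ x}, t i ^ m i.1})
    (N : ℕ) (hN0 : 0 < N) (hN : ∀ i, m i ∣ N)
    (Osh : Type u) [CommRing Osh] [IsLocalRing Osh] [Algebra ↑(X.presheaf.stalk x) Osh]
    [IsLocalHom (algebraMap ↑(X.presheaf.stalk x) Osh)]
    [Hensel.IsStrictHenselization ↑(X.presheaf.stalk x) Osh]
    (K' : IntermediateField K Ω) (hK' : ∀ (y : Ω) (a : K), y ^ N = algebraMap K Ω a → y ∈ K')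
    (n : ℕ) (hn : 0 < n) (q : ℕ) :
    Function.Surjective (HC.HC (ZMod n) (hC K' (Hens2.specOf X x Osh ≫ f)) q) := by
  obtain ⟨k, _, _, _, _, π, b, hb, _, _, _, r, d, e, T, S, h1, h2, h3, h4, h5⟩ :=
    exists_data V K Ω f hreg ξ m hm x hx hsnc Osh
  have hO : HenselianLocalRing Osh := Hensel.IsStrictHenselization.henselian ↑(X.presheaf.stalk x)
  have hs : IsSepClosure (IsLocalRing.ResidueField ↑(X.presheaf.stalk x))
    (IsLocalRing.ResidueField Osh) := Hensel.IsStrictHenselization.isSepClosure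
  have : IsSepClosed (IsLocalRing.ResidueField Osh) :=
    IsSepClosure.sep_closed (IsLocalRing.ResidueField ↑(X.presheaf.stalk x))
  obtain ⟨bs, hbs⟩ := Groth.Agent.Sga7.H397.LatBasis.exists_basis (Fin (r + 1))
    (fun i => m (e i).1) (fun i => hm _) r (Fintype.card_fin _)
  have hpos := gcd_pos (fun i => m (e i).1) (fun i => hm _)
  obtain ⟨N', rfl⟩ : (Finset.univ : Finset (Fin (r + 1))).gcd (fun i => m (e i).1) ∣ N :=
    (Finset.gcd_dvd (Finset.mem_univ (0 : Fin (r + 1)))).trans (hN _)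
  exact surjective_local K' π hb (hctx k n hn) T _ (fun i => hm _) h4
    (htow k Osh (r + 1) d T S h2 h3 n hn) bs _ hpos hbs N' (Nat.pos_of_mul_pos_left hN0) hK' _ h5 q

end Groth.Agent.Sga7.H748.Asm
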