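import Groth.Agent.Sga7.H520.PuiseuxField

/-!
# The `N`-th power of an automorphism fixes `N`-th roots

`V` strictly henselian of residue characteristic zero, `K = Frac V`: if `y ^ N ∈ K` then `σ ^ N` fixes `y`.
-/

set_option autoImplicit false
universe u

namespace Groth.Agent.Sga7.H748.KumFix

/-- `σ ^ N` fixes the `N`-th roots of elements of `K`, if `K` contains a primitive `N`-th root of unity. -/
theorem pow_apply_eq {K Ω : Type*} [Field K] [Field Ω] [Algebra K Ω] (σ : Ω ≃ₐ[K] Ω) {N : ℕ}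
    (hN : 0 < N) {ζ : K} (hζ : IsPrimitiveRoot ζ N) {y : Ω} {a : K} (ha : y ^ N = algebraMap K Ω a) :
    (σ ^ N) y = y := by
  have : NeZero N := ⟨hN.ne'⟩
  rcases eq_or_ne y 0 with rfl | hy
  · rw [map_zero]
  have hζ' : IsPrimitiveRoot (algebraMap K Ω ζ) N := hζ.map_of_injective (algebraMap K Ω).injective
  have hz : (σ y * y⁻¹) ^ N = 1 := by
    rw [mul_pow, ← map_pow, ha, σ.commutes, inv_pow, ha]
    rw [mul_inv_cancel₀]
    rw [← ha]
    exact pow_ne_zero _ hy
  obtain ⟨i, -, hi⟩ := hζ'.eq_pow_of_pow_eq_one hz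
  have h1 : σ y = algebraMap K Ω (ζ ^ i) * y := by
    rw [map_pow, hi, mul_assoc, inv_mul_cancel₀ hy, mul_one]
  have h2 : ∀ k : ℕ, (σ ^ k) y = algebraMap K Ω ((ζ ^ i) ^ k) * y := by
    intro k
    induction k with
    | zero => simp
    | succ k ih =>
      rw [pow_succ', AlgEquiv.mul_apply, ih, map_mul, σ.commutes, h1, ← mul_assoc, ← map_mul,
        ← pow_succ]
  have h3 : (ζ ^ i) ^ N = 1 := by
    rw [← pow_mul, mul_comm i N, pow_mul, hζ.pow_eq_one, one_pow]
  rw [h2, h3, map_one, one_mul]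

theorem pow_apply_eq_of_strictHens (V K Ω : Type u) [CommRing V] [IsDomain V] [HenselianLocalRing V]
    [IsSepClosed (IsLocalRing.ResidueField V)] [CharZero (IsLocalRing.ResidueField V)] [Field K]
    [Algebra V K] [IsFractionRing V K] [Field Ω] [Algebra K Ω] (σ : Ω ≃ₐ[K] Ω) {N : ℕ}
    (hN : 0 < N) {y : Ω} {a : K} (ha : y ^ N = algebraMap K Ω a) : (σ ^ N) y = y := by
  obtain ⟨ξ, hξ⟩ := Groth.Agent.Sga7.H520.PuiseuxField.exists_primitiveRoot V hN.ne'
  exact pow_apply_eq σ hN (hξ.map_of_injective (IsFractionRing.injective V K)) ha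

end Groth.Agent.Sga7.H748.KumFix
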