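import Groth.Agent.Sga7.H748.Glob
import Groth.Agent.Sga7.H748.KumFix
import Groth.Agent.Sga7.H748.Asm
import Groth.Agent.EtpbcB.OshHens

/-!
# S4068 from the inputs (i) and (ii) of `H748.Asm`
-/

set_option autoImplicit false
universe u
open CategoryTheory CategoryTheory.Limits AlgebraicGeometry Opposite Abelian
open scoped Groth.Agent.Etcore.EtInst
open Groth.Agent.Etcore.EtInst

namespace Groth.Agent.Sga7.H748.Final

open Groth.Agent.Etcore Groth.Agent.Etcore.HQ Groth.Agent.Etcore.HpullCalc Groth.Agent.Etcore.HC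
open Groth.Agent.Sga7.H748.Main Groth.Agent.Sga7.H748.Geo Groth.Agent.Sga7.H748.Glob
open Groth.Agent.EtpbcB.StrictLoc

attribute [local instance] pfl

theorem locAt_congr {V K Ω : Type u} [CommRing V] [Field K] [Algebra V K] [Field Ω]
    [Algebra K Ω] (K' : IntermediateField K Ω) {T : Scheme.{u}} (m M : ℕ)
    {c c' : T ⟶ Spec (CommRingCat.of V)} (e : c = c')
    (h : (∀ q, Function.Surjective (HC (ZMod m) (hC K' c') q)) ∧
      (∀ q, M ≤ q → Subsingleton (HH (pullback c' (cO V K Ω))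
        (EtCoh.const (pullback c' (cO V K Ω)) (ZMod m)) q))) :
    (∀ q, Function.Surjective (HC (ZMod m) (hC K' c) q)) ∧
      (∀ q, M ≤ q → Subsingleton (HH (pullback c (cO V K Ω))
        (EtCoh.const (pullback c (cO V K Ω)) (ZMod m)) q)) := by
  subst e
  exact h

theorem subsingleton_congr {V K Ω : Type u} [CommRing V] [Field K] [Algebra V K] [Field Ω]
    [Algebra K Ω] {T : Scheme.{u}} (m q : ℕ) {c c' : T ⟶ Spec (CommRingCat.of V)}
    {d : Spec (CommRingCat.of Ω) ⟶ Spec (CommRingCat.of V)} (e : c = c') (e' : d = cO V K Ω)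
    (h : Subsingleton (EtCoh.H (pullback c' d) (EtCoh.const (pullback c' d) (ZMod m)) q)) :
    Subsingleton (HH (pullback c (cO V K Ω)) (EtCoh.const (pullback c (cO V K Ω)) (ZMod m)) q) := by
  subst e e'
  exact h

open Classical in
theorem subsingleton_nearby (hctx : Asm.CtxAll.{u}) (htow : Asm.Tower.{u}) (V K Ω : Type u) [CommRing V] [IsDomain V]
    [IsDiscreteValuationRing V] [HenselianLocalRing V] [IsSepClosed (IsLocalRing.ResidueField V)]
    [CharZero (IsLocalRing.ResidueField V)] [Field K] [Algebra V K] [IsFractionRing V K]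
    [Field Ω] [Algebra K Ω] [IsSepClosure K Ω]
    {X : Scheme.{u}} (f : X ⟶ Spec (CommRingCat.of V)) [IsProper f]
    (hreg : ∀ x : ↥X, IsRegularLocalRing ↑(X.presheaf.stalk x))
    {J : Type} [Fintype J] (ξ : J → ↥X) (m : J → ℕ) (hm : ∀ i, 0 < m i)
    (hsnc : ∀ x : ↥X, f.base x = IsLocalRing.closedPoint V →
      ∃ t : {i : J // ξ i ⤳ x} → ↑(X.presheaf.stalk x),
        (∃ (k : ℕ) (s : Fin k → ↑(X.presheaf.stalk x)),
          Ideal.span (Set.range t ∪ Set.range s) = IsLocalRing.maximalIdeal ↑(X.presheaf.stalk x) ∧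
          ((Nat.card {i : J // ξ i ⤳ x} + k : ℕ) : WithBot ℕ∞) = ringKrullDim ↑(X.presheaf.stalk x)) ∧
        (∀ i : {i : J // ξ i ⤳ x}, ∃ P : PrimeSpectrum ↑(X.presheaf.stalk x),
          (X.fromSpecStalk x).base P = ξ i.1 ∧ P.asIdeal = Ideal.span {t i}) ∧
        Ideal.map (f.stalkMap x).hom (IsLocalRing.maximalIdeal ↑((Spec (CommRingCat.of V)).presheaf.stalk (f.base x))) =
          Ideal.span {∏ i : {i : J // ξ i ⤳ x}, t i ^ m i.1})
    (M : ℕ)
    (hM : ∀ x : ↥X, f.base x = IsLocalRing.closedPoint V → Nat.card {i : J // ξ i ⤳ x} ≤ M)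
    (n : ℕ) (hn : 0 < n) (x : ↥X) (hx : f.base x = IsLocalRing.closedPoint V) (Osh : Type u)
    [CommRing Osh] [IsLocalRing Osh] [Algebra ↑(X.presheaf.stalk x) Osh]
    [IsLocalHom (algebraMap ↑(X.presheaf.stalk x) Osh)]
    [Hensel.IsStrictHenselization ↑(X.presheaf.stalk x) Osh] (q : ℕ) (hq : M ≤ q) :
    Subsingleton (HH (pullback (Hens2.specOf X x Osh ≫ f) (cO V K Ω))
      (EtCoh.const (pullback (Hens2.specOf X x Osh ≫ f) (cO V K Ω)) (ZMod n)) q) := by
  obtain ⟨t, -, -, ht⟩ := hsnc x hx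
  have hc := LocData.one_le_card f ξ m x t ht
  let _ : Algebra V Ω := ((algebraMap K Ω).comp (algebraMap V K)).toAlgebra
  have : IsScalarTower V K Ω := IsScalarTower.of_algebraMap_eq (fun _ => rfl)
  obtain ⟨-, h1⟩ := Asm.struct_of hctx htow V K Ω f hreg ξ m hm x hx (hsnc x hx) Osh
  obtain ⟨e⟩ := h1 n hn q
  have h0 : Nat.choose (Nat.card {i : J // ξ i ⤳ x} - 1) q = 0 :=
    Nat.choose_eq_zero_of_lt (by have := hM x hx; omega)
  refine subsingleton_congr n q (d := Spec.map (CommRingCat.ofHom (algebraMap V Ω)))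
    (c' := Spec.map (CommRingCat.ofHom (algebraMap ↑(X.presheaf.stalk x) Osh)) ≫
      X.fromSpecStalk x ≫ f) (Category.assoc _ _ _) rfl ?_
  refine e.toEquiv.subsingleton_congr.2 ?_
  rw [h0, mul_zero]
  infer_instance

open Classical in
theorem result_of_pos (hctx : Asm.CtxAll.{u}) (htow : Asm.Tower.{u}) (V K Ω : Type u) [CommRing V] [IsDomain V]
    [IsDiscreteValuationRing V] [HenselianLocalRing V] [IsSepClosed (IsLocalRing.ResidueField V)]
    [CharZero (IsLocalRing.ResidueField V)] [Field K] [Algebra V K] [IsFractionRing V K]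
    [Field Ω] [Algebra K Ω] [IsSepClosure K Ω]
    {X : Scheme.{u}} (f : X ⟶ Spec (CommRingCat.of V)) [IsProper f]
    (hreg : ∀ x : ↥X, IsRegularLocalRing ↑(X.presheaf.stalk x))
    {J : Type} [Fintype J] (ξ : J → ↥X) (m : J → ℕ) (hm : ∀ i, 0 < m i)
    (hsnc : ∀ x : ↥X, f.base x = IsLocalRing.closedPoint V →
      ∃ t : {i : J // ξ i ⤳ x} → ↑(X.presheaf.stalk x),
        (∃ (k : ℕ) (s : Fin k → ↑(X.presheaf.stalk x)),
          Ideal.span (Set.range t ∪ Set.range s) = IsLocalRing.maximalIdeal ↑(X.presheaf.stalk x) ∧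
          ((Nat.card {i : J // ξ i ⤳ x} + k : ℕ) : WithBot ℕ∞) = ringKrullDim ↑(X.presheaf.stalk x)) ∧
        (∀ i : {i : J // ξ i ⤳ x}, ∃ P : PrimeSpectrum ↑(X.presheaf.stalk x),
          (X.fromSpecStalk x).base P = ξ i.1 ∧ P.asIdeal = Ideal.span {t i}) ∧
        Ideal.map (f.stalkMap x).hom (IsLocalRing.maximalIdeal ↑((Spec (CommRingCat.of V)).presheaf.stalk (f.base x))) =
          Ideal.span {∏ i : {i : J // ξ i ⤳ x}, t i ^ m i.1})
    (N : ℕ) (hN0 : 0 < N) (hN : ∀ i, m i ∣ N) (M : ℕ)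
    (hM : ∀ x : ↥X, f.base x = IsLocalRing.closedPoint V → Nat.card {i : J // ξ i ⤳ x} ≤ M)
    (n : ℕ) (hn : 0 < n)
    (q : ℕ) (σ : Ω ≃ₐ[K] Ω)
    [PreservesFiniteLimits (EtCoh.pull
      (SGA7.twistAut Ω (pullback.snd f (Spec.map (CommRingCat.ofHom (algebraMap V K)))) σ))] :
    (SGA7.cohAct Ω (pullback.snd f (Spec.map (CommRingCat.ofHom (algebraMap V K)))) σ (ZMod n) q ^ N - 1) ^
      (min (q + 1) M) = 0 := by
  have halg : Algebra.IsAlgebraic K Ω := inferInstance
  let K' : IntermediateField K Ω := IntermediateField.fixedField (Subgroup.zpowers (σ ^ N))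
  have hfix : ∀ x ∈ K', (σ ^ N) x = x := fun x hx => by
    rw [IntermediateField.mem_fixedField_iff] at hx
    exact hx _ (Subgroup.mem_zpowers _)
  have hK' : ∀ (y : Ω) (a : K), y ^ N = algebraMap K Ω a → y ∈ K' := by
    intro y a ha
    have h1 := KumFix.pow_apply_eq_of_strictHens V K Ω σ hN0 ha
    rw [IntermediateField.mem_fixedField_iff]
    intro g hg
    have h2 : Subgroup.zpowers (σ ^ N) ≤ MulAction.stabilizer (Ω ≃ₐ[K] Ω) y := by
      rw [Subgroup.zpowers_le]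
      exact h1
    exact h2 hg
  refine cohAct_sub_one_pow K' f σ N hN0 hfix n M hn ?_ q
  intro Ω' _ _ g hg
  have hx : f.base (g default) = IsLocalRing.closedPoint V := hg
  obtain ⟨i1, i2, i3, e⟩ := Groth.Agent.EtpbcB.OshHens.exists_isStrictHenselization g (g default) rfl
  refine locAt_congr K' n M (c' := Hens2.specOf X (g default) (Osh g) ≫ f) (by rw [e]) ⟨?_, ?_⟩
  · exact fun q' => Asm.surj_of hctx htow V K Ω f hreg ξ m hm (g default) hx (hsnc _ hx) N hN0 hN
      (Osh g) K' hK' n hn q'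
  · intro q' hq'
    exact subsingleton_nearby hctx htow V K Ω f hreg ξ m hm hsnc M hM n hn (g default) hx (Osh g) q'
      hq'

open Classical in
/-- S4068 from (i) and (ii). -/
theorem result_of (hctx : Asm.CtxAll.{u}) (htow : Asm.Tower.{u}) (V K Ω : Type u) [CommRing V]
    [IsDomain V]
    [IsDiscreteValuationRing V] [HenselianLocalRing V] [IsSepClosed (IsLocalRing.ResidueField V)]
    [CharZero (IsLocalRing.ResidueField V)] [Field K] [Algebra V K] [IsFractionRing V K]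
    [Field Ω] [Algebra K Ω] [IsSepClosure K Ω]
    {X : Scheme.{u}} (f : X ⟶ Spec (CommRingCat.of V)) [IsProper f]
    (hreg : ∀ x : ↥X, IsRegularLocalRing ↑(X.presheaf.stalk x))
    {J : Type} [Fintype J] (ξ : J → ↥X) (m : J → ℕ) (hm : ∀ i, 0 < m i)
    (hsnc : ∀ x : ↥X, f.base x = IsLocalRing.closedPoint V →
      ∃ t : {i : J // ξ i ⤳ x} → ↑(X.presheaf.stalk x),
        (∃ (k : ℕ) (s : Fin k → ↑(X.presheaf.stalk x)),
          Ideal.span (Set.range t ∪ Set.range s) = IsLocalRing.maximalIdeal ↑(X.presheaf.stalk x) ∧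
          ((Nat.card {i : J // ξ i ⤳ x} + k : ℕ) : WithBot ℕ∞) = ringKrullDim ↑(X.presheaf.stalk x)) ∧
        (∀ i : {i : J // ξ i ⤳ x}, ∃ P : PrimeSpectrum ↑(X.presheaf.stalk x),
          (X.fromSpecStalk x).base P = ξ i.1 ∧ P.asIdeal = Ideal.span {t i}) ∧
        Ideal.map (f.stalkMap x).hom (IsLocalRing.maximalIdeal ↑((Spec (CommRingCat.of V)).presheaf.stalk (f.base x))) =
          Ideal.span {∏ i : {i : J // ξ i ⤳ x}, t i ^ m i.1})
    (N : ℕ) (hN : ∀ i, m i ∣ N) (M : ℕ)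
    (hM : ∀ x : ↥X, f.base x = IsLocalRing.closedPoint V → Nat.card {i : J // ξ i ⤳ x} ≤ M)
    (n : ℕ) (hn : 0 < n) (q : ℕ) (σ : Ω ≃ₐ[K] Ω)
    [PreservesFiniteLimits (EtCoh.pull
      (SGA7.twistAut Ω (pullback.snd f (Spec.map (CommRingCat.ofHom (algebraMap V K)))) σ))] :
    (SGA7.cohAct Ω (pullback.snd f (Spec.map (CommRingCat.ofHom (algebraMap V K)))) σ (ZMod n) q ^ N - 1) ^
      (min (q + 1) M) = 0 := by
  rcases Nat.eq_zero_or_pos N with rfl | hN0
  · rcases Nat.eq_zero_or_pos M with rfl | hM0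
    · have h1 := result_of_pos hctx htow V K Ω f hreg ξ m hm hsnc (∏ i, m i)
        (Finset.prod_pos fun i _ => hm i) (fun i => Finset.dvd_prod_of_mem m (Finset.mem_univ i))
        0 hM n hn q σ
      rw [Nat.min_zero, pow_zero] at h1 ⊢
      exact h1
    · rw [pow_zero, sub_self]
      exact zero_pow (by omega)
  · exact result_of_pos hctx htow V K Ω f hreg ξ m hm hsnc N hN0 hN M hM n hn q σ

end Groth.Agent.Sga7.H748.Final
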