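import Groth.Agent.Etrest.RDer1

/-!
# Vanishing of a map of derived functors, by dimension shifting (abstract form)

`G : A ⥤ B` left exact, `E : B ⥤ Ab` exact, and `H^n` a "cohomology theory" on `A` with values in
abelian groups which agrees with `E ∘ G` in degree zero and is effaceable by injectives.  If `φ`
induces zero on `H^q`, then `E (R^q G φ) = 0`.
-/

set_option autoImplicit false
universe w v u v' u' w'
open CategoryTheory CategoryTheory.Limits

namespace Groth.Agent.Sga7.H748.ZeroAbs

open Groth.Agent.Etrest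

variable {A : Type u} [Category.{v} A] [Abelian A] [EnoughInjectives A]

/-- the short exact sequence `0 → F → I → I/F → 0` -/
noncomputable def iS (F : A) : ShortComplex A :=
  ShortComplex.mk (Injective.ι F) (cokernel.π (Injective.ι F)) (cokernel.condition _)

theorem iS_shortExact (F : A) : (iS F).ShortExact :=
  { exact := ShortComplex.exact_of_g_is_cokernel _ (cokernelIsCokernel _)
    mono_f := inferInstanceAs (Mono (Injective.ι F))
    epi_g := inferInstanceAs (Epi (cokernel.π (Injective.ι F))) }

instance (F : A) : Injective (iS F).X₂ := inferInstanceAs (Injective (Injective.under F))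

/-- extension of a morphism to the injective hulls -/
noncomputable def extI {F F' : A} (φ : F ⟶ F') : Injective.under F ⟶ Injective.under F' :=
  Injective.factorThru (φ ≫ Injective.ι F') (Injective.ι F)

omit [Abelian A] in
theorem ι_extI {F F' : A} (φ : F ⟶ F') : Injective.ι F ≫ extI φ = φ ≫ Injective.ι F' :=
  Injective.comp_factorThru _ _

/-- The morphism of short exact sequences `0 → F → I → I/F → 0` over a morphism. -/
noncomputable def iM {F F' : A} (φ : F ⟶ F') : iS F ⟶ iS F' where
  τ₁ := φ
  τ₂ := extI φ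
  τ₃ := cokernel.map _ _ φ (extI φ) (ι_extI φ)
  comm₁₂ := (ι_extI φ).symm
  comm₂₃ := (cokernel.π_desc _ _ _).symm

variable {B : Type u'} [Category.{v'} B] [Abelian B] (G : A ⥤ B) [G.Additive]
  [PreservesFiniteLimits G] (E : B ⥤ AddCommGrpCat.{w}) [E.Additive] [PreservesFiniteLimits E]
  [PreservesFiniteColimits E]

/-- the stalk of `R^0 G` -/
noncomputable def r0 (F : A) : E.obj ((G.rightDerived 0).obj F) →+ E.obj (G.obj F) :=
  (E.map (G.rightDerivedZeroIsoSelf.hom.app F)).hom

omit [E.Additive] [PreservesFiniteLimits E] [PreservesFiniteColimits E] in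
theorem r0_bijective (F : A) : Function.Bijective (r0 G E F) :=
  (ConcreteCategory.isIso_iff_bijective _).1
    (inferInstanceAs (IsIso (E.map (G.rightDerivedZeroIsoSelf.hom.app F))))

omit [E.Additive] [PreservesFiniteLimits E] [PreservesFiniteColimits E] in
theorem r0_nat {F F' : A} (φ : F ⟶ F') (x : E.obj ((G.rightDerived 0).obj F)) :
    r0 G E F' (E.map ((G.rightDerived 0).map φ) x) = E.map (G.map φ) (r0 G E F x) := by
  have h2 := congrArg E.map (G.rightDerivedZeroIsoSelf.hom.naturality φ)
  rw [Functor.map_comp, Functor.map_comp] at h2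
  exact ConcreteCategory.congr_hom h2 x

theorem map_rightDerived_eq_zero (H : ℕ → A → Type w') [∀ n F, AddCommGroup (H n F)]
    (mp : ∀ (n : ℕ) {F F' : A}, (F ⟶ F') → H n F →+ H n F')
    (e0 : ∀ F : A, E.obj (G.obj F) → H 0 F) (he0 : ∀ F, Function.Bijective (e0 F))
    (ne0 : ∀ {F F' : A} (φ : F ⟶ F') (x : E.obj (G.obj F)), e0 F' (E.map (G.map φ) x) = mp 0 φ (e0 F x))
    (hz : ∀ F : A, e0 F 0 = 0)
    (hinj : ∀ (I : A) [Injective I] (n : ℕ) (x : H (n + 1) I), x = 0)
    (hex : ∀ (S S' : ShortComplex A) (_ : S.ShortExact) (_ : S'.ShortExact) (f : S ⟶ S') (n : ℕ),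
      (∀ x : H (n + 1) S.X₁, mp (n + 1) f.τ₁ x = 0) →
        ∀ x : H n S.X₃, ∃ z : H n S'.X₂, mp n S'.g z = mp n f.τ₃ x)
    {F F' : A} (φ : F ⟶ F') (q : ℕ) (hφ : ∀ x : H q F, mp q φ x = 0) :
    E.map ((G.rightDerived q).map φ) = 0 := by
  induction q generalizing F F' with
  | zero =>
    ext x
    apply (r0_bijective G E F').1
    rw [r0_nat]
    apply (he0 F').1
    rw [ne0, hφ]
    exact ((congrArg (e0 F') (map_zero (r0 G E F'))).trans (hz F')).symm
  | succ q ih =>
    have hδ := congrArg E.map
      (RDer1.δ_naturality G (iS_shortExact F) (iS_shortExact F') (iM φ) q)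
    have hepi : Epi (RDer1.δ G (iS_shortExact F) q) :=
      RDer1.epi_δ G (iS_shortExact F) q
        (Functor.isZero_rightDerived_obj_injective_succ G q (iS F).X₂)
    have hepi' : Epi (E.map (RDer1.δ G (iS_shortExact F) q)) := inferInstance
    have key := hex _ _ (iS_shortExact F) (iS_shortExact F') (iM φ) q hφ
    rw [Functor.map_comp, Functor.map_comp] at hδ
    have goal : E.map ((G.rightDerived q).map (iM φ).τ₃) ≫
        E.map (RDer1.δ G (iS_shortExact F') q) = 0 := by
      cases q with
      | zero =>
        ext z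
        obtain ⟨y, hy⟩ := key (e0 _ (r0 G E _ z))
        obtain ⟨v, rfl⟩ := (he0 _).2 y
        obtain ⟨v', rfl⟩ := (r0_bijective G E _).2 v
        have h5 : E.map ((G.rightDerived 0).map (iM φ).τ₃) z =
            E.map ((G.rightDerived 0).map (iS F').g) v' := by
          apply (r0_bijective G E _).1
          apply (he0 _).1
          rw [r0_nat, r0_nat, ne0, ne0, hy]
        have h6 := ConcreteCategory.congr_hom (congrArg E.map
          (RDer1.comp_δ G (iS_shortExact F') 0)) v'
        rw [Functor.map_comp] at h6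
        refine (congrArg (E.map (RDer1.δ G (iS_shortExact F') 0)) h5).trans ?_
        refine h6.trans ?_
        rw [Functor.map_zero]
        rfl
      | succ q =>
        rw [ih (iM φ).τ₃ (fun x => ?_), zero_comp]
        obtain ⟨y, hy⟩ := key x
        rw [← hy, hinj _ _ y, map_zero]
    rw [goal] at hδ
    exact (cancel_epi (E.map (RDer1.δ G (iS_shortExact F) q))).1 (hδ.trans comp_zero.symm)

end Groth.Agent.Sga7.H748.ZeroAbs
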