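import Groth.Agent.Etcore.RpushLoc
import Groth.Agent.Etcore.StalkLimN
import Groth.Agent.Sga7.H748.ZeroAbs

/-!
# The stalk of a map of higher direct images

`stalk_map_rightDerived_eq_zero`: for `f : X ⟶ Y` qcqs, a geometric point `ξ` of `Y` and `φ : F ⟶ F'` on
`X` which induces zero on `H^q(X ×_Y Spec O^sh, -)`, the map induced by `φ` on the stalk at `ξ` of
`R^q f_*` is zero.
-/

set_option autoImplicit false
universe u
open CategoryTheory CategoryTheory.Limits AlgebraicGeometry Opposite Abelian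
open scoped Groth.Agent.Etcore.EtInst
open Groth.Agent.Etcore.EtInst

namespace Groth.Agent.Sga7.H748.StalkZero

open Groth.Agent.Etcore Groth.Agent.Etcore.HQ Groth.Agent.Etcore.RpushLoc
  Groth.Agent.EtpbcB.StrictLoc Groth.Agent.EtpbcB.SepClosedPoint Groth.Agent.Etrest

section nat

variable {X : Scheme.{u}}

/-- naturality of the connecting maps -/
theorem δ_nat {S S' : ShortComplex (EtCoh.Ab X)} (hS : S.ShortExact) (hS' : S'.ShortExact)
    (ψ : S ⟶ S') {Z : Scheme.{u}} (q : Z ⟶ X) (n : ℕ) (x : HQ S.X₃ q n) :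
    map ψ.τ₁ q (n + 1) (δ hS q n x) = δ hS' q n (map ψ.τ₃ q n x) := by
  exact comp_aux (ShortComplex.ShortExact.extClass_naturality (hS.map_of_exact (EtCoh.pull q))
    (hS'.map_of_exact (EtCoh.pull q)) ((EtCoh.pull q).mapShortComplex.map ψ)) x

theorem exists_map {S S' : ShortComplex (EtCoh.Ab X)} (hS : S.ShortExact) (hS' : S'.ShortExact)
    (ψ : S ⟶ S') {Z : Scheme.{u}} (q : Z ⟶ X) (n : ℕ)
    (h : ∀ x : HQ S.X₁ q (n + 1), map ψ.τ₁ q (n + 1) x = 0) (x : HQ S.X₃ q n) :
    ∃ z : HQ S'.X₂ q n, map S'.g q n z = map ψ.τ₃ q n x := by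
  apply exists_map_eq hS'
  rw [← δ_nat hS hS' ψ]
  exact h _

end nat

/-- elements of an exact sequence in `AddCommGrpCat` after an exact functor -/
theorem exists_lift_of_exact {C : Type*} [Category* C] [Abelian C] (T : C ⥤ AddCommGrpCat.{u + 1})
    [T.Additive] [PreservesFiniteLimits T] [PreservesFiniteColimits T]
    {S : ShortComplex C} (hS : S.Exact) (x : T.obj S.X₂) (hx : T.map S.g x = 0) :
    ∃ y : T.obj S.X₁, T.map S.f y = x :=
  (ShortComplex.ab_exact_iff _).1 (hS.map T) x hx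

variable {X Y : Scheme.{u}} (f : X ⟶ Y) [QuasiCompact f] [QuasiSeparated f] {Ω : Type u} [Field Ω]
  [IsSepClosed Ω] (ξ : Spec (CommRingCat.of Ω) ⟶ Y) {XA : Scheme.{u}} {fA : XA ⟶ Spec (Osh ξ)}
  {a : XA ⟶ X} (h : IsPullback a fA f (toBase ξ))

/-- The stalk of `f_* F` is `H^0` of the fibre product with the strict localization. -/
noncomputable def e0 (F : EtCoh.Ab X) : (EtCoh.stalk ξ).obj ((EtCoh.push f).obj F) →+ HQ F a 0 :=
  (HpullCalc.H0 XA ((EtCoh.pull a).obj F)).symm.toAddMonoidHom.comp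
    ((StalkLim.stalkPushIso f ξ h).hom.app F).hom

theorem e0_bijective (F : EtCoh.Ab X) : Function.Bijective (e0 f ξ h F) :=
  (HpullCalc.H0 XA ((EtCoh.pull a).obj F)).symm.bijective.comp
    ((ConcreteCategory.isIso_iff_bijective _).1
      (inferInstanceAs (IsIso ((StalkLim.stalkPushIso f ξ h).hom.app F))))

theorem H0_e0 (F : EtCoh.Ab X) (x : (EtCoh.stalk ξ).obj ((EtCoh.push f).obj F)) :
    HpullCalc.H0 XA ((EtCoh.pull a).obj F) (e0 f ξ h F x) =
      ((StalkLim.stalkPushIso f ξ h).hom.app F).hom x :=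
  AddEquiv.apply_symm_apply _ _

theorem e0_nat {F F' : EtCoh.Ab X} (φ : F ⟶ F') (x : (EtCoh.stalk ξ).obj ((EtCoh.push f).obj F)) :
    e0 f ξ h F' ((EtCoh.stalk ξ).map ((EtCoh.push f).map φ) x) = map φ a 0 (e0 f ξ h F x) := by
  apply (HpullCalc.H0 XA ((EtCoh.pull a).obj F')).injective
  rw [map_apply, HpullCalc.H0_map, H0_e0, H0_e0]
  exact ConcreteCategory.congr_hom ((StalkLim.stalkPushIso f ξ h).hom.naturality φ) x

include h in
theorem eq_zero_of_injective_pull (I : EtCoh.Ab X) [Injective I] (n : ℕ) (x : HQ I a (n + 1)) :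
    x = 0 := by
  have := StalkLimN.subsingleton_H_pull f ξ h I (Nat.succ_pos n)
  exact Subsingleton.elim (α := EtCoh.H XA ((EtCoh.pull a).obj I) (n + 1)) _ _

omit [QuasiCompact f] [QuasiSeparated f] in
theorem pfl_push : PreservesFiniteLimits (EtCoh.push f) :=
  have : PreservesLimitsOfSize.{0, 0} (EtCoh.push f) :=
    (EtCoh.pullPushAdj f).rightAdjoint_preservesLimits
  PreservesLimitsOfSize.preservesFiniteLimits _

attribute [local instance] pfl_push

include h in
/-- **The stalk lemma.** -/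
theorem stalk_map_rightDerived_eq_zero {F F' : EtCoh.Ab X} (φ : F ⟶ F') (q : ℕ)
    (hφ : ∀ x : HQ F a q, map φ a q x = 0) :
    (EtCoh.stalk ξ).map (((EtCoh.push f).rightDerived q).map φ) = 0 :=
  ZeroAbs.map_rightDerived_eq_zero (EtCoh.push f) (EtCoh.stalk ξ) (fun n F => HQ F a n)
    (fun n _ _ ψ => map ψ a n) (fun F => e0 f ξ h F) (e0_bijective f ξ h) (e0_nat f ξ h)
    (fun _ => map_zero _) (fun I _ n x => eq_zero_of_injective_pull f ξ h I n x)
    (fun _ _ hS hS' ψ n => exists_map hS hS' ψ a n) φ q hφ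

end Groth.Agent.Sga7.H748.StalkZero
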