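import Groth.Agent.Sga7.H748.LerayNil
import Groth.Agent.Sga7.H748.StalkZero
import Groth.Agent.Etcore.Stalks
import Groth.Agent.Etbase.StalkPull
import Groth.Agent.EtpbcB.TorsionBasic
import Groth.Agent.S3095

/-!
# Nilpotence on the cohomology of an open part of a proper scheme over a henselian base

`HHmap_compF_eq_zero`: `f : X ⟶ Spec V` proper, `V` henselian local, `j : Z ⟶ X` qcqs, `F` a sheaf of
`ℤ/m`-modules on `Z`, `ψ q : F ⟶ F` such that `R^q j_* (ψ q)` is zero on the stalks at the geometric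
points over the closed point.  Then `ψ n ≫ ⋯ ≫ ψ 0` is zero on `H^n(Z, F)`.
-/

set_option autoImplicit false
universe u
open CategoryTheory CategoryTheory.Limits AlgebraicGeometry Opposite Abelian
open scoped Groth.Agent.Etcore.EtInst
open Groth.Agent.Etcore.EtInst

namespace Groth.Agent.Sga7.H748.EtaleNil

open Groth.Agent.Etcore Groth.Agent.Etcore.HQ Groth.Agent.Etcore.HpullCalc
open Groth.Agent.Sga7.H748.LerayNil

attribute [local instance] pfl

/-- A morphism of sheaves which is zero on all stalks is zero. -/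
theorem eq_zero_of_stalks {X : Scheme.{u}} {F G : EtCoh.Ab X} (φ : F ⟶ G)
    (h : ∀ x : X, ∃ (Ω : Type u) (_ : Field Ω) (_ : IsSepClosed Ω)
      (ξ : Spec (CommRingCat.of Ω) ⟶ X), ξ default = x ∧ (EtCoh.stalk ξ).map φ = 0) : φ = 0 := by
  have h1 : Epi (kernel.ι φ) := Stalks.epi_of_stalks _ fun x => by
    obtain ⟨Ω, _, _, ξ, hξ, h0⟩ := h x
    refine ⟨Ω, inferInstance, inferInstance, ξ, hξ, fun p => ?_⟩
    exact StalkZero.exists_lift_of_exact (EtCoh.stalk ξ) (ShortComplex.exact_kernel φ) p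
      (ConcreteCategory.congr_hom h0 p)
  rw [← cancel_epi (kernel.ι φ), kernel.condition, comp_zero]

/-- A morphism whose stalks at the images of the geometric points vanish has zero inverse image. -/
theorem pull_map_eq_zero {X Y : Scheme.{u}} (i : Y ⟶ X) {F G : EtCoh.Ab X} (φ : F ⟶ G)
    (h : ∀ (Ω : Type u) [Field Ω] [IsSepClosed Ω] (ξ : Spec (CommRingCat.of Ω) ⟶ Y),
      (EtCoh.stalk (ξ ≫ i)).map φ = 0) : (EtCoh.pull i).map φ = 0 := by
  refine eq_zero_of_stalks _ fun y => ?_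
  obtain ⟨Ω, _, _, ξ, hξ⟩ := Stalks.exists_geom y
  have h1 := (Groth.Agent.Etbase.StalkPull.stalkPullIso i ξ).hom.naturality φ
  rw [h Ω ξ, zero_comp] at h1
  exact ⟨Ω, inferInstance, inferInstance, ξ, hξ,
    (cancel_epi ((Groth.Agent.Etbase.StalkPull.stalkPullIso i ξ).hom.app F)).1
      (h1.symm.trans comp_zero.symm)⟩

theorem isTorsion_rightDerived {X Y : Scheme.{u}} (f : X ⟶ Y) {m : ℕ} (hm : 0 < m) {F : EtCoh.Ab X}
    (h : EtCoh.KilledBy m F) (q : ℕ) :
    EtCoh.IsTorsion (((EtCoh.push f).rightDerived q).obj F) :=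
  EtpbcB.TorsionBasic.isTorsion_of_killedBy hm
    (EtpbcB.TorsionBasic.killedBy_map ((EtCoh.push f).rightDerived q) m F h)

section Main

variable {V : Type u} [CommRing V] [HenselianLocalRing V] {X Z : Scheme.{u}}
  (f : X ⟶ Spec (CommRingCat.of V)) [IsProper f] (j : Z ⟶ X)

/-- Proper base change: a class on `X` which vanishes on the closed fibre vanishes. -/
theorem eq_zero_of_fibre (G : EtCoh.Ab X) (hG : EtCoh.IsTorsion G) (p : ℕ) (x : HH X G p)
    (hx : hp (pullback.fst f (Spec.map (CommRingCat.ofHom (IsLocalRing.residue V)))) G p x = 0) :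
    x = 0 := by
  apply (Groth.Agent.S3095.result V X f G hG p).1
  exact hx.trans (map_zero _).symm

theorem HHmap_zero {X : Scheme.{u}} (F G : EtCoh.Ab X) (n : ℕ) (x : HH X F n) :
    HHmap (0 : F ⟶ G) n x = 0 := by
  rw [HHmap_apply, Ext.mk₀_zero, Ext.comp_zero]

omit [IsProper f] in
/-- the points over the closed point -/
theorem comp_default {Ω : Type u} [Field Ω]
    (ξ : Spec (CommRingCat.of Ω) ⟶
      pullback f (Spec.map (CommRingCat.ofHom (IsLocalRing.residue V)))) :
    ((ξ ≫ pullback.fst f (Spec.map (CommRingCat.ofHom (IsLocalRing.residue V)))) ≫ f) default =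
      IsLocalRing.closedPoint V := by
  rw [Category.assoc, pullback.condition, ← Category.assoc, Scheme.Hom.comp_apply]
  exact IsLocalRing.PrimeSpectrum.comap_residue V _

theorem HHmap_compF_eq_zero {m : ℕ} (hm : 0 < m) (F : EtCoh.Ab Z) (hF : EtCoh.KilledBy m F)
    (ψ : ℕ → (F ⟶ F))
    (hψ : ∀ (q : ℕ) (Ω : Type u) [Field Ω] [IsSepClosed Ω] (ξ : Spec (CommRingCat.of Ω) ⟶ X),
      (ξ ≫ f) default = IsLocalRing.closedPoint V →
        (EtCoh.stalk ξ).map (((EtCoh.push j).rightDerived q).map (ψ q)) = 0)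
    (n : ℕ) (x : HH Z F n) : HHmap (compF ψ n) n x = 0 := by
  have key := ext_comp_eq_zero (EtCoh.pullPushAdj j) ψ (EtCoh.const X ℤ) n (by
    intro p q _ y
    refine eq_zero_of_fibre f (((EtCoh.push j).rightDerived q).obj F)
      (isTorsion_rightDerived j hm hF q) p (HHmap (((EtCoh.push j).rightDerived q).map (ψ q)) p y) ?_
    rw [hp_map, pull_map_eq_zero _ _ (fun Ω _ _ ξ => hψ q Ω _ (comp_default f ξ)), HHmap_zero])
    ((Ext.mk₀ (EtCore.pullConst j ℤ).hom).comp x (zero_add n))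
  rw [Ext.comp_assoc_of_third_deg_zero] at key
  have h2 := congrArg (fun t => (Ext.mk₀ (EtCore.pullConst j ℤ).inv).comp t (zero_add n)) key
  simp only [Ext.comp_zero] at h2
  rw [← Ext.comp_assoc_of_second_deg_zero, Ext.mk₀_comp_mk₀, Iso.inv_hom_id, Ext.mk₀_id_comp] at h2
  exact h2

end Main

end Groth.Agent.Sga7.H748.EtaleNil
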