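import Groth.Agent.Etcore.HQ
import Groth.Agent.Etcore.ExtAdj
import Groth.Agent.Sga4B.HpullSquare

/-!
# The direct image of a constant sheaf along an exact direct image, with an endomorphism

`h : Y ⟶ W` with `h_*` exact (e.g. integral), `K` on `Y`.

* `edge h K q : H^q(W, h_* K) → H^q(Y, K)` is bijective;
* `edgeQ`: the same for `H^q(W', a^{-1} h_* K) → H^q(Y', b^{-1} K)`, in a square with `h_*`-base change;
* `T h τ : h_* M ⟶ h_* M` for `τ : Y ⟶ Y` over `W`, `edge_T`: corresponds to the pullback `τ^*` on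
  `H^q(Y, M)`;
* `α h M : M_W ⟶ h_* M_Y`, `α_T`; `surjective_map_α`.
-/

set_option autoImplicit false
universe u
open CategoryTheory CategoryTheory.Limits AlgebraicGeometry Opposite Abelian
open scoped Groth.Agent.Etcore.EtInst
open Groth.Agent.Etcore.EtInst

namespace Groth.Agent.Sga7.H748.GalPush

open Groth.Agent.Etcore Groth.Agent.Etcore.HQ Groth.Agent.Etcore.HpullCalc
open Groth.Agent.Etcore.PullCoh

attribute [local instance] pfl

section Edge

variable {Y W : Scheme.{u}} (h : Y ⟶ W)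

/-- The edge map `H^q(W, h_* K) → H^q(Y, K)`. -/
noncomputable def edge (K : EtCoh.Ab Y) (q : ℕ) : HH W ((EtCoh.push h).obj K) q →+ HH Y K q :=
  (HHmap ((EtCoh.pullPushAdj h).counit.app K) q).comp (hp h ((EtCoh.push h).obj K) q)

theorem edge_apply (K : EtCoh.Ab Y) (q : ℕ) (x : HH W ((EtCoh.push h).obj K) q) :
    edge h K q x = HHmap ((EtCoh.pullPushAdj h).counit.app K) q (hp h ((EtCoh.push h).obj K) q x) :=
  rfl

theorem pfl_push : PreservesFiniteLimits (EtCoh.push h) :=
  have : PreservesLimitsOfSize.{0, 0} (EtCoh.push h) :=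
    (EtCoh.pullPushAdj h).rightAdjoint_preservesLimits
  PreservesLimitsOfSize.preservesFiniteLimits _

attribute [local instance] pfl_push

theorem edge_bijective [PreservesFiniteColimits (EtCoh.push h)] (K : EtCoh.Ab Y) (q : ℕ) :
    Function.Bijective (edge h K q) := by
  have h1 := (ExtAdj.extAdj (EtCoh.pullPushAdj h) (EtCoh.const W ℤ) K q).symm.bijective
  have h2 : Function.Bijective (fun e : Ext ((EtCoh.pull h).obj (EtCoh.const W ℤ)) K q =>
      (Ext.mk₀ (EtCore.pullConst h ℤ).inv).comp e (zero_add q)) := by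
    refine Function.bijective_iff_has_inverse.2
      ⟨fun e => (Ext.mk₀ (EtCore.pullConst h ℤ).hom).comp e (zero_add q), fun x => ?_, fun x => ?_⟩
    · change (Ext.mk₀ (EtCore.pullConst h ℤ).hom).comp
        ((Ext.mk₀ (EtCore.pullConst h ℤ).inv).comp x (zero_add q)) (zero_add q) = x
      rw [← Ext.comp_assoc_of_second_deg_zero, Ext.mk₀_comp_mk₀, Iso.hom_inv_id, Ext.mk₀_id_comp]
    · change (Ext.mk₀ (EtCore.pullConst h ℤ).inv).comp
        ((Ext.mk₀ (EtCore.pullConst h ℤ).hom).comp x (zero_add q)) (zero_add q) = x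
      rw [← Ext.comp_assoc_of_second_deg_zero, Ext.mk₀_comp_mk₀, Iso.inv_hom_id, Ext.mk₀_id_comp]
  have h3 := h2.comp h1
  refine (congrArg Function.Bijective ?_).mp h3
  funext x
  simp only [Function.comp_apply]
  rw [ExtAdj.extAdj_symm_apply, edge_apply, hp_apply, HHmap_apply]
  exact (Ext.comp_assoc_of_third_deg_zero _ _ _ _).symm

/-- Naturality of the edge map. -/
theorem edge_map {K K' : EtCoh.Ab Y} (φ : K ⟶ K') (q : ℕ) (x : HH W ((EtCoh.push h).obj K) q) :
    edge h K' q (HHmap ((EtCoh.push h).map φ) q x) = HHmap φ q (edge h K q x) := by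
  rw [edge_apply, edge_apply, hp_map, ← HHmap_comp, ← HHmap_comp]
  congr 2
  exact (EtCoh.pullPushAdj h).counit.naturality φ

end Edge

section Square

open Groth.Agent.Sga4B.HpullSquare

variable {Y W Y' W' : Scheme.{u}} (h : Y ⟶ W) (a : W' ⟶ W) (h' : Y' ⟶ W') (b : Y' ⟶ Y)
  (w : b ≫ h = h' ≫ a)

/-- The edge map in a square. -/
noncomputable def edgeQ (K : EtCoh.Ab Y) (q : ℕ) :
    HQ ((EtCoh.push h).obj K) a q →+ HH Y' ((EtCoh.pull b).obj K) q :=
  (edge h' ((EtCoh.pull b).obj K) q).comp (HHmap (EtCoh.baseChange0 h a h' b w K) q)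

theorem edgeQ_apply (K : EtCoh.Ab Y) (q : ℕ) (x : HQ ((EtCoh.push h).obj K) a q) :
    edgeQ h a h' b w K q x =
      HHmap ((pullSquare a h h' b w).hom.app ((EtCoh.push h).obj K) ≫
        (EtCoh.pull b).map ((EtCoh.pullPushAdj h).counit.app K)) q (hp h' _ q x) := by
  have h1 : edgeQ h a h' b w K q x =
      edge h' ((EtCoh.pull b).obj K) q (HHmap (EtCoh.baseChange0 h a h' b w K) q x) := rfl
  rw [h1, edge_apply, hp_map, ← HHmap_comp, map_baseChange0_counit]

theorem edgeQ_bijective (K : EtCoh.Ab Y) (q : ℕ) [PreservesFiniteColimits (EtCoh.push h')]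
    [IsIso (EtCoh.baseChange0 h a h' b w K)] : Function.Bijective (edgeQ h a h' b w K q) :=
  (edge_bijective h' ((EtCoh.pull b).obj K) q).comp
    (HHmap_bijective (EtCoh.baseChange0 h a h' b w K) q)

/-- The adjoint of a morphism to a direct image. -/
noncomputable def adj {G : EtCoh.Ab W} {K : EtCoh.Ab Y} (α : G ⟶ (EtCoh.push h).obj K) :
    (EtCoh.pull h).obj G ⟶ K :=
  (EtCoh.pull h).map α ≫ (EtCoh.pullPushAdj h).counit.app K

theorem edge_map_eq {G : EtCoh.Ab W} {K : EtCoh.Ab Y} (α : G ⟶ (EtCoh.push h).obj K) (q : ℕ)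
    (z : HH W G q) : edge h K q (HHmap α q z) = HHmap (adj h α) q (hp h G q z) := by
  rw [edge_apply, hp_map, ← HHmap_comp]
  rfl

theorem edgeQ_map {G : EtCoh.Ab W} {K : EtCoh.Ab Y} (α : G ⟶ (EtCoh.push h).obj K) (q : ℕ)
    (z : HQ G a q) :
    edgeQ h a h' b w K q (HQ.map α a q z) =
      HHmap ((pullSquare a h h' b w).hom.app G ≫ (EtCoh.pull b).map (adj h α)) q
        (hp h' ((EtCoh.pull a).obj G) q z) := by
  rw [edgeQ_apply, HQ.map_apply, hp_map, ← HHmap_comp]
  congr 2
  have h1 := (pullSquare a h h' b w).hom.naturality α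
  simp only [Functor.comp_map] at h1
  rw [reassoc_of% h1, adj, Functor.map_comp]

/-- If `h'^*` is surjective on `H^q` with coefficients in `a^{-1} G`, and the adjoint of
`α : G ⟶ h_* K` is an isomorphism, then `α` is surjective on `H^q(W', -)`. -/
theorem surjective_map {G : EtCoh.Ab W} {K : EtCoh.Ab Y} (α : G ⟶ (EtCoh.push h).obj K) (q : ℕ)
    [IsIso (adj h α)] [PreservesFiniteColimits (EtCoh.push h')]
    [IsIso (EtCoh.baseChange0 h a h' b w K)]
    (hs : Function.Surjective (hp h' ((EtCoh.pull a).obj G) q)) :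
    Function.Surjective (HQ.map α a q) := by
  intro x
  obtain ⟨y, hy⟩ := (HHmap_bijective ((pullSquare a h h' b w).hom.app G ≫
    (EtCoh.pull b).map (adj h α)) q).2 (edgeQ h a h' b w K q x)
  obtain ⟨z, rfl⟩ := hs y
  refine ⟨z, (edgeQ_bijective h a h' b w K q).1 ?_⟩
  rw [edgeQ_map, hy]

end Square

section Endo

variable {Y W : Scheme.{u}} (h : Y ⟶ W) (M : Type) [AddCommGroup M]

/-- The action of an endomorphism on cohomology with constant coefficients. -/
noncomputable def act (τ : Y ⟶ Y) (q : ℕ) : HH Y (EtCoh.const Y M) q →+ HH Y (EtCoh.const Y M) q :=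
  (HHmap (EtCore.pullConst τ M).hom q).comp (hp τ (EtCoh.const Y M) q)

theorem act_apply (τ : Y ⟶ Y) (q : ℕ) (x : HH Y (EtCoh.const Y M) q) :
    act M τ q x = HHmap (EtCore.pullConst τ M).hom q (hp τ (EtCoh.const Y M) q x) := rfl

/-- The map from the constant sheaf to the direct image of the constant sheaf. -/
noncomputable def α : EtCoh.const W M ⟶ (EtCoh.push h).obj (EtCoh.const Y M) :=
  (EtCoh.pullPushAdj h).homEquiv _ _ (EtCore.pullConst h M).hom

theorem adj_homEquiv {G : EtCoh.Ab W} {K : EtCoh.Ab Y} (β : (EtCoh.pull h).obj G ⟶ K) :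
    adj h ((EtCoh.pullPushAdj h).homEquiv _ _ β) = β := by
  have := (EtCoh.pullPushAdj h).homEquiv_counit G K ((EtCoh.pullPushAdj h).homEquiv _ _ β)
  rw [Equiv.symm_apply_apply] at this
  exact this.symm

theorem adj_injective {G : EtCoh.Ab W} {K : EtCoh.Ab Y} {β γ : G ⟶ (EtCoh.push h).obj K}
    (e : adj h β = adj h γ) : β = γ := by
  apply ((EtCoh.pullPushAdj h).homEquiv _ _).symm.injective
  rw [(EtCoh.pullPushAdj h).homEquiv_counit, (EtCoh.pullPushAdj h).homEquiv_counit]
  exact e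

theorem adj_α : adj h (α h M) = (EtCore.pullConst h M).hom := adj_homEquiv h _

instance : IsIso (adj h (α h M)) := by
  rw [adj_α]; infer_instance

variable (τ : Y ⟶ Y) (w : τ ≫ h = h)

/-- The endomorphism of `h_* M` defined by an endomorphism of `Y` over `W`. -/
noncomputable def T : (EtCoh.push h).obj (EtCoh.const Y M) ⟶ (EtCoh.push h).obj (EtCoh.const Y M) :=
  (EtCoh.pullPushAdj h).homEquiv _ _
    (inv (th τ h h w ((EtCoh.push h).obj (EtCoh.const Y M))) ≫
      (EtCoh.pull τ).map ((EtCoh.pullPushAdj h).counit.app (EtCoh.const Y M)) ≫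
      (EtCore.pullConst τ M).hom)

theorem adj_T : adj h (T h M τ w) =
    inv (th τ h h w ((EtCoh.push h).obj (EtCoh.const Y M))) ≫
      (EtCoh.pull τ).map ((EtCoh.pullPushAdj h).counit.app (EtCoh.const Y M)) ≫
      (EtCore.pullConst τ M).hom := adj_homEquiv h _

/-- `T` corresponds to the action of `τ` on cohomology. -/
theorem edge_T (q : ℕ) (x : HH W ((EtCoh.push h).obj (EtCoh.const Y M)) q) :
    edge h (EtCoh.const Y M) q (HHmap (T h M τ w) q x) = act M τ q (edge h (EtCoh.const Y M) q x) := by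
  rw [edge_map_eq, adj_T, act_apply, edge_apply, hp_map, HHmap_comp, HHmap_comp]
  have h1 := hp_comp_th τ h h w ((EtCoh.push h).obj (EtCoh.const Y M)) q x
  have h2 : HHmap (inv (th τ h h w ((EtCoh.push h).obj (EtCoh.const Y M)))) q
      (hp h ((EtCoh.push h).obj (EtCoh.const Y M)) q x) =
      hp τ ((EtCoh.pull h).obj ((EtCoh.push h).obj (EtCoh.const Y M))) q
        (hp h ((EtCoh.push h).obj (EtCoh.const Y M)) q x) := by
    refine (congrArg (HHmap (inv (th τ h h w ((EtCoh.push h).obj (EtCoh.const Y M)))) q)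
      h1.symm).trans ?_
    rw [← HHmap_comp, IsIso.hom_inv_id, HHmap_id]
  rw [h2]
  rfl

/-- `T` fixes the image of the constant sheaf. -/
theorem α_T : α h M ≫ T h M τ w = α h M := by
  apply adj_injective h
  have h1 : adj h (α h M ≫ T h M τ w) = (EtCoh.pull h).map (α h M) ≫ adj h (T h M τ w) := by
    rw [adj, adj, Functor.map_comp, Category.assoc]
  rw [h1, adj_T, adj_α]
  have h2 := th_nat τ h h w (α h M)
  have h3 : (EtCoh.pull h).map (α h M) ≫
      inv (th τ h h w ((EtCoh.push h).obj (EtCoh.const Y M))) =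
      inv (th τ h h w (EtCoh.const W M)) ≫ (EtCoh.pull τ).map ((EtCoh.pull h).map (α h M)) := by
    rw [IsIso.comp_inv_eq, Category.assoc, h2, IsIso.inv_hom_id_assoc]
  rw [reassoc_of% h3]
  have h4 : (EtCoh.pull τ).map ((EtCoh.pull h).map (α h M)) ≫
      (EtCoh.pull τ).map ((EtCoh.pullPushAdj h).counit.app (EtCoh.const Y M)) =
      (EtCoh.pull τ).map (EtCore.pullConst h M).hom := by
    rw [← Functor.map_comp]
    exact congrArg _ (adj_α h M)
  rw [reassoc_of% h4, pullConst_comp τ h h w M, IsIso.inv_hom_id_assoc]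

end Endo

end Groth.Agent.Sga7.H748.GalPush
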