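import Groth.Agent.Sga7.H748.Main
import Groth.Prelude.Def_SGA7I

/-!
# The geometric situation: fixed field of a power of an automorphism

`K ⊂ K' ⊂ Ω`, `K'` fixed by `τ ∈ Aut_K(Ω)`.  For `f : X ⟶ Spec V`: `Y = (X_K)_Ω ⟶ W = X_{K'}`.
-/

set_option autoImplicit false
universe u
open CategoryTheory CategoryTheory.Limits AlgebraicGeometry Opposite Abelian
open scoped Groth.Agent.Etcore.EtInst
open Groth.Agent.Etcore.EtInst

namespace Groth.Agent.Sga7.H748.Geo

open Groth.Agent.Etcore Groth.Agent.Etcore.HQ Groth.Agent.Etcore.HpullCalc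
open Groth.Agent.Etcore.PullCoh
open Groth.Agent.Sga7.H748.GalPush Groth.Agent.Sga7.H748.Main

attribute [local instance] pfl

section Act

variable {Y : Scheme.{u}} (M : Type) [AddCommGroup M]

theorem act_comp (τ τ' τ'' : Y ⟶ Y) (e : τ ≫ τ' = τ'') (q : ℕ) (x : HH Y (EtCoh.const Y M) q) :
    act M τ'' q x = act M τ q (act M τ' q x) := by
  rw [act_apply, act_apply, act_apply, hp_map, ← hp_comp_th τ τ' τ'' e, ← HHmap_comp, ← HHmap_comp,
    pullConst_comp τ τ' τ'' e]

theorem actE_comp (τ τ' τ'' : Y ⟶ Y) (e : τ ≫ τ' = τ'') (q : ℕ) :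
    actE M τ'' q = actE M τ q * actE M τ' q := by
  ext x
  exact act_comp M τ τ' τ'' e q x

end Act

section Twist

variable {K : Type u} [Field K] (Ω : Type u) [Field Ω] [Algebra K Ω] {X : Scheme.{u}}
  (g : X ⟶ Spec (CommRingCat.of K))

theorem twistAut_fst (σ : Ω ≃ₐ[K] Ω) :
    SGA7.twistAut Ω g σ ≫ pullback.fst _ _ = pullback.fst _ _ := by
  rw [SGA7.twistAut, pullback.map, pullback.lift_fst, Category.comp_id]

theorem twistAut_snd (σ : Ω ≃ₐ[K] Ω) :
    SGA7.twistAut Ω g σ ≫ pullback.snd _ _ =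
      pullback.snd _ _ ≫ Spec.map (CommRingCat.ofHom (σ : Ω →+* Ω)) := by
  rw [SGA7.twistAut, pullback.map, pullback.lift_snd]

/-- multiplicativity of `twistAut` -/
theorem twistAut_mul (σ τ : Ω ≃ₐ[K] Ω) :
    SGA7.twistAut Ω g σ ≫ SGA7.twistAut Ω g τ = SGA7.twistAut Ω g (σ * τ) := by
  apply pullback.hom_ext
  · rw [Category.assoc, twistAut_fst, twistAut_fst, twistAut_fst]
  · rw [Category.assoc, twistAut_snd, ← Category.assoc, twistAut_snd, Category.assoc, twistAut_snd,
      ← Spec.map_comp]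
    rfl

theorem actE_pow (M : Type) [AddCommGroup M] (q : ℕ) (σ : Ω ≃ₐ[K] Ω) (N : ℕ) :
    actE M (SGA7.twistAut Ω g σ) q ^ (N + 1) = actE M (SGA7.twistAut Ω g (σ ^ (N + 1))) q := by
  induction N with
  | zero => rw [zero_add, pow_one, pow_one]
  | succ N ih =>
    rw [pow_succ, ih, pow_succ σ (N + 1)]
    exact (actE_comp M _ _ _ (twistAut_mul Ω g (σ ^ (N + 1)) σ) q).symm

end Twist

section Squares

variable {V K Ω : Type u} [CommRing V] [Field K] [Algebra V K] [Field Ω] [Algebra K Ω]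
  (K' : IntermediateField K Ω) {X : Scheme.{u}} (f : X ⟶ Spec (CommRingCat.of V))

variable (V) in
/-- `Spec K' ⟶ Spec V` -/
noncomputable def cL : Spec (CommRingCat.of K') ⟶ Spec (CommRingCat.of V) :=
  Spec.map (CommRingCat.ofHom ((algebraMap K K').comp (algebraMap V K)))

variable (V K Ω) in
/-- `Spec Ω ⟶ Spec V` -/
noncomputable def cO : Spec (CommRingCat.of Ω) ⟶ Spec (CommRingCat.of V) :=
  Spec.map (CommRingCat.ofHom ((algebraMap K Ω).comp (algebraMap V K)))

/-- `Spec Ω ⟶ Spec K'` -/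
noncomputable def iL : Spec (CommRingCat.of Ω) ⟶ Spec (CommRingCat.of K') :=
  Spec.map (CommRingCat.ofHom (algebraMap K' Ω))

theorem iL_cL : iL K' ≫ cL V K' = cO V K Ω := by
  rw [iL, cL, cO, ← Spec.map_comp]
  rfl

theorem cO_eq : cO V K Ω = Spec.map (CommRingCat.ofHom (algebraMap K Ω)) ≫
    Spec.map (CommRingCat.ofHom (algebraMap V K)) := by
  rw [cO, CommRingCat.ofHom_comp, Spec.map_comp]

/-- the geometric generic fibre over `X` -/
theorem isPullback_Y : IsPullback
    (pullback.fst (pullback.snd f (Spec.map (CommRingCat.ofHom (algebraMap V K))))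
      (Spec.map (CommRingCat.ofHom (algebraMap K Ω))) ≫ pullback.fst _ _)
    (pullback.snd (pullback.snd f (Spec.map (CommRingCat.ofHom (algebraMap V K))))
      (Spec.map (CommRingCat.ofHom (algebraMap K Ω)))) f (cO V K Ω) := by
  have h1 := IsPullback.of_hasPullback f (Spec.map (CommRingCat.ofHom (algebraMap V K)))
  have h2 := IsPullback.of_hasPullback (pullback.snd f (Spec.map (CommRingCat.ofHom (algebraMap V K))))
    (Spec.map (CommRingCat.ofHom (algebraMap K Ω)))
  rw [cO_eq]
  exact IsPullback.paste_horiz h2 h1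

/-- `Y = (X_K)_Ω ⟶ W = X_{K'}` -/
noncomputable def hL : SGA7.bcField Ω (pullback.snd f (Spec.map (CommRingCat.ofHom (algebraMap V K)))) ⟶
    pullback f (cL V K') :=
  pullback.lift (pullback.fst _ _ ≫ pullback.fst _ _) (pullback.snd _ _ ≫ iL K') (by
    rw [Category.assoc, Category.assoc, iL_cL, ← Category.assoc, (isPullback_Y f).w])

theorem hL_fst : hL K' f ≫ pullback.fst f (cL V K') = pullback.fst _ _ ≫ pullback.fst _ _ :=
  pullback.lift_fst _ _ _

theorem hL_snd : hL K' f ≫ pullback.snd f (cL V K') = pullback.snd _ _ ≫ iL K' :=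
  pullback.lift_snd _ _ _

theorem isPullback_hL : IsPullback (hL K' f)
    (pullback.snd (pullback.snd f (Spec.map (CommRingCat.ofHom (algebraMap V K))))
      (Spec.map (CommRingCat.ofHom (algebraMap K Ω)))) (pullback.snd f (cL V K')) (iL K') := by
  refine IsPullback.of_right ?_ (hL_snd K' f) (IsPullback.of_hasPullback f (cL V K'))
  rw [hL_fst, iL_cL]
  exact isPullback_Y f

theorem isIntegralHom_iL [Algebra.IsAlgebraic K Ω] : IsIntegralHom (iL K') := by
  rw [iL, IsIntegralHom.SpecMap_iff]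
  have : Algebra.IsAlgebraic K' Ω := inferInstance
  exact algebraMap_isIntegral_iff.mpr inferInstance

theorem isIntegralHom_hL [Algebra.IsAlgebraic K Ω] : IsIntegralHom (hL K' f) :=
  MorphismProperty.of_isPullback (isPullback_hL K' f).flip (isIntegralHom_iL K')

/-- An automorphism fixing `K'` acts over `X_{K'}`. -/
theorem twistAut_hL (τ : Ω ≃ₐ[K] Ω) (hτ : ∀ x ∈ K', τ x = x) :
    SGA7.twistAut Ω (pullback.snd f (Spec.map (CommRingCat.ofHom (algebraMap V K)))) τ ≫ hL K' f =
      hL K' f := by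
  apply pullback.hom_ext
  · rw [Category.assoc, hL_fst, ← Category.assoc, twistAut_fst]
  · rw [Category.assoc, hL_snd, ← Category.assoc, twistAut_snd, Category.assoc, iL, ← Spec.map_comp]
    congr 2
    ext x
    exact hτ x.1 x.2

section hC

variable {T : Scheme.{u}} (c : T ⟶ Spec (CommRingCat.of V))

/-- `T ×_V Ω ⟶ T ×_V K'` -/
noncomputable def hC : pullback c (cO V K Ω) ⟶ pullback c (cL V K') :=
  pullback.lift (pullback.fst _ _) (pullback.snd _ _ ≫ iL K') (by
    rw [Category.assoc, iL_cL, pullback.condition])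

theorem hC_fst : hC K' c ≫ pullback.fst _ _ = pullback.fst _ _ := pullback.lift_fst _ _ _

theorem hC_snd : hC K' c ≫ pullback.snd _ _ = pullback.snd _ _ ≫ iL K' := pullback.lift_snd _ _ _

end hC

section Local

variable {T : Scheme.{u}} (p : T ⟶ X)

/-- the localized `W` -/
noncomputable abbrev WA : Scheme.{u} := pullback (p ≫ f) (cL V K')

variable (K Ω) in
/-- the localized `Y` -/
noncomputable abbrev YA : Scheme.{u} := pullback (p ≫ f) (cO V K Ω)

noncomputable abbrev hA : YA K Ω f p ⟶ WA K' f p := hC K' (p ≫ f)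

theorem hA_fst : hA K' f p ≫ pullback.fst _ _ = pullback.fst _ _ := pullback.lift_fst _ _ _

theorem hA_snd : hA K' f p ≫ pullback.snd _ _ = pullback.snd _ _ ≫ iL K' := pullback.lift_snd _ _ _

noncomputable def aA : WA K' f p ⟶ pullback f (cL V K') :=
  pullback.lift (pullback.fst _ _ ≫ p) (pullback.snd _ _) (by
    rw [Category.assoc, pullback.condition])

theorem aA_fst : aA K' f p ≫ pullback.fst _ _ = pullback.fst _ _ ≫ p := pullback.lift_fst _ _ _

theorem aA_snd : aA K' f p ≫ pullback.snd _ _ = pullback.snd _ _ := pullback.lift_snd _ _ _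

theorem isPullback_aA : IsPullback (aA K' f p) (pullback.fst (p ≫ f) (cL V K'))
    (pullback.fst f (cL V K')) p := by
  have h1 : IsPullback (pullback.snd (p ≫ f) (cL V K')) (pullback.fst (p ≫ f) (cL V K'))
      (cL V K') (p ≫ f) := (IsPullback.of_hasPullback (p ≫ f) (cL V K')).flip
  have h2 : IsPullback (pullback.snd f (cL V K')) (pullback.fst f (cL V K')) (cL V K') f :=
    (IsPullback.of_hasPullback f (cL V K')).flip
  exact IsPullback.of_right (by rw [aA_snd]; exact h1) (aA_fst K' f p) h2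

noncomputable def bA : YA K Ω f p ⟶
    SGA7.bcField Ω (pullback.snd f (Spec.map (CommRingCat.ofHom (algebraMap V K)))) :=
  (isPullback_Y (K := K) (Ω := Ω) f).lift (pullback.fst _ _ ≫ p) (pullback.snd _ _) (by
    rw [Category.assoc, pullback.condition])

theorem bA_snd : bA (K := K) (Ω := Ω) f p ≫ pullback.snd _ _ = pullback.snd _ _ :=
  (isPullback_Y (K := K) (Ω := Ω) f).lift_snd _ _ _

theorem bA_fst : bA (K := K) (Ω := Ω) f p ≫ (pullback.fst _ _ ≫ pullback.fst _ _) =
    pullback.fst _ _ ≫ p :=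
  (isPullback_Y (K := K) (Ω := Ω) f).lift_fst _ _ _

theorem bA_hL : bA (K := K) (Ω := Ω) f p ≫ hL K' f = hA K' f p ≫ aA K' f p := by
  apply pullback.hom_ext
  · rw [Category.assoc, Category.assoc, hL_fst, aA_fst, bA_fst, ← Category.assoc, hA_fst]
  · rw [Category.assoc, Category.assoc, hL_snd, aA_snd, hA_snd, ← Category.assoc, bA_snd]

theorem isPullback_bA : IsPullback (bA (K := K) (Ω := Ω) f p) (hA K' f p) (hL K' f) (aA K' f p) := by
  have h1 : IsPullback (hA K' f p) (pullback.snd (p ≫ f) (cO V K Ω)) (pullback.snd (p ≫ f) (cL V K'))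
      (iL K') := by
    refine IsPullback.of_right ?_ (hA_snd K' f p) (IsPullback.of_hasPullback (p ≫ f) (cL V K'))
    rw [hA_fst, iL_cL]
    exact IsPullback.of_hasPullback _ _
  refine IsPullback.of_right (h₁₂ := pullback.snd _ _) (h₂₂ := pullback.snd f (cL V K')) (v₁₃ := iL K')
    ?_ (bA_hL K' f p) (isPullback_hL K' f).flip
  rw [bA_snd, aA_snd]
  exact h1.flip

end Local

end Squares

end Groth.Agent.Sga7.H748.Geo
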