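import Groth.Agent.Sga7.H748.Geo
import Groth.Agent.Sga7.H25.CohActEq

/-!
# The global part of S4068

`cohAct_sub_one_pow`: `V` henselian, `f : X ⟶ Spec V` proper, `σ ∈ Aut_K(Ω)`, `K'` fixed by `σ^N`.  If at
the strict localizations `A` of `X` at the points of the closed fibre
`H^q(A ⊗ K', ℤ/m) → H^q(A ⊗ Ω, ℤ/m)` is surjective and `H^q(A ⊗ Ω, ℤ/m) = 0` for `q ≥ M`, then
`(σ^N - 1)^{min(q + 1, M)} = 0` on `H^q(X_Ω, ℤ/m)`.
-/

set_option autoImplicit false
universe u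
open CategoryTheory CategoryTheory.Limits AlgebraicGeometry Opposite Abelian
open scoped Groth.Agent.Etcore.EtInst
open Groth.Agent.Etcore.EtInst

namespace Groth.Agent.Sga7.H748.Glob

open Groth.Agent.Etcore Groth.Agent.Etcore.HQ Groth.Agent.Etcore.HpullCalc Groth.Agent.Etcore.HC
open Groth.Agent.Sga7.H748.Main Groth.Agent.Sga7.H748.Geo
open Groth.Agent.EtpbcB.StrictLoc

attribute [local instance] pfl

variable {V K Ω : Type u} [CommRing V] [Field K] [Algebra V K] [Field Ω]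
  [Algebra K Ω] (K' : IntermediateField K Ω) {X : Scheme.{u}}
  (f : X ⟶ Spec (CommRingCat.of V))

/-- The local statement at a geometric point (or any `T ⟶ X`). -/
def LocAt (m M : ℕ) {T : Scheme.{u}} (p : T ⟶ X) : Prop :=
  (∀ q, Function.Surjective (HC (ZMod m) (hA K' f p) q)) ∧
    (∀ q, M ≤ q → Subsingleton (HH (YA K Ω f p) (EtCoh.const (YA K Ω f p) (ZMod m)) q))

theorem surjective_hp_of_HC {Y' W' : Scheme.{u}} (h : Y' ⟶ W') (M : Type) [AddCommGroup M] (q : ℕ)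
    (hs : Function.Surjective (HC M h q)) : Function.Surjective (hp h (EtCoh.const W' M) q) := by
  intro y
  obtain ⟨x, hx⟩ := hs (HHmap (EtCore.pullConst h M).hom q y)
  exact ⟨x, (HHmap_bijective (EtCore.pullConst h M).hom q).1 hx⟩

variable [HenselianLocalRing V] [Algebra.IsAlgebraic K Ω] [IsProper f]

theorem actE_sub_one_pow (σ : Ω ≃ₐ[K] Ω) (N : ℕ) (hN : 0 < N) (hσ : ∀ x ∈ K', (σ ^ N) x = x)
    (m M : ℕ) (hm : 0 < m)
    (hloc : ∀ (Ω' : Type u) [Field Ω'] [IsSepClosed Ω'] (ξ : Spec (CommRingCat.of Ω') ⟶ X),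
      (ξ ≫ f) default = IsLocalRing.closedPoint V → LocAt K' f m M (toBase ξ)) (q : ℕ) :
    (actE (ZMod m) (SGA7.twistAut Ω
      (pullback.snd f (Spec.map (CommRingCat.ofHom (algebraMap V K)))) σ) q ^ N - 1) ^
        (min (q + 1) M) = 0 := by
  obtain ⟨N, rfl⟩ : ∃ k, N = k + 1 := ⟨N - 1, by omega⟩
  have i1 : IsIntegralHom (hL K' f) := isIntegralHom_hL K' f
  have i2 : IsAffineHom (cL V K') := inferInstance
  rw [actE_pow]
  exact actE_sub_one_pow_eq_zero f (pullback.fst f (cL V K')) (hL K' f) _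
    (twistAut_hL K' f (σ ^ (N + 1)) hσ) m M hm
    (fun Ω' _ _ ξ hξ => ⟨_, _, aA K' f (toBase ξ), pullback.fst _ _, bA f (toBase ξ),
      hA K' f (toBase ξ), isPullback_aA K' f (toBase ξ), isPullback_bA K' f (toBase ξ),
      fun q => surjective_hp_of_HC _ _ q ((hloc Ω' ξ hξ).1 q), (hloc Ω' ξ hξ).2⟩) q

/-- **The global part of S4068.** -/
theorem cohAct_sub_one_pow (σ : Ω ≃ₐ[K] Ω)
    [PreservesFiniteLimits (EtCoh.pull (SGA7.twistAut Ω
      (pullback.snd f (Spec.map (CommRingCat.ofHom (algebraMap V K)))) σ))]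
    (N : ℕ) (hN : 0 < N) (hσ : ∀ x ∈ K', (σ ^ N) x = x) (m M : ℕ) (hm : 0 < m)
    (hloc : ∀ (Ω' : Type u) [Field Ω'] [IsSepClosed Ω'] (ξ : Spec (CommRingCat.of Ω') ⟶ X),
      (ξ ≫ f) default = IsLocalRing.closedPoint V → LocAt K' f m M (toBase ξ)) (q : ℕ) :
    (SGA7.cohAct Ω (pullback.snd f (Spec.map (CommRingCat.ofHom (algebraMap V K)))) σ (ZMod m) q ^ N
      - 1) ^ (min (q + 1) M) = 0 := by
  rw [H25.CohActEq.cohAct_eq]
  exact actE_sub_one_pow K' f σ N hN hσ m M hm hloc q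

end Groth.Agent.Sga7.H748.Glob
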