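import Groth.Agent.Sga7.H748.Geo
import Groth.Agent.Sga7.H763.ToD
import Groth.Agent.Etcore.HC

/-!
# The nearby fibre as a pullback of the universal cover of `G_m`

`b : Spec Ω ⟶ Spec k[ℚ]` as in Puiseux' theorem.  For `c : T ⟶ Spec V` and `Z = T[1/π]`:
`T ×_V Ω = Z ×_{k[ℤ]} k[ℚ]`, and `T ×_V Ω ⟶ Z ×_{k[ℤ], N} k[ℤ]` factors through `T ×_V K'` if `K'`
contains the `N`-th roots of the elements of `K`.
-/

set_option autoImplicit false
universe u
open CategoryTheory CategoryTheory.Limits AlgebraicGeometry Opposite Abelian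
open scoped Groth.Agent.Etcore.EtInst
open Groth.Agent.Etcore.EtInst

namespace Groth.Agent.Sga7.H748.Glue

open Groth.Agent.Etcore Groth.Agent.Etcore.HQ Groth.Agent.Etcore.HpullCalc
open Groth.Agent.Sga7.H748.Geo Groth.Agent.Sga7.H763.Dia Groth.Agent.Sga7.H763.ToD

variable {V K Ω : Type u} [CommRing V] [Field K] [Algebra V K] [Field Ω] [Algebra K Ω]
  (K' : IntermediateField K Ω) {k : Type u} [Field k] [Algebra k V] (π : V)
  {b : Spec (CommRingCat.of Ω) ⟶ D k ℚ}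

/-- `ℤ → ℚ` -/
abbrev zq : ℤ →+ ℚ := Int.castAddHom ℚ

/-- `ℕ → ℤ` -/
abbrev nz : ℕ →+ ℤ := Nat.castAddMonoidHom ℤ

theorem zq_comp_nz : zq.comp nz = Nat.castAddMonoidHom ℚ := by
  ext; simp

section Z

variable (hb : IsPullback (cO V K Ω) b (toD k (pw π)) (Dm k (Nat.castAddMonoidHom ℚ)))
  {T : Scheme.{u}} (c : T ⟶ Spec (CommRingCat.of V)) {Z : Scheme.{u}} {jZ : Z ⟶ T} {u : Z ⟶ D k ℤ}
  (sqZ : IsPullback jZ u (c ≫ toD k (pw π)) (Dm k nz))

include hb in
theorem condZ : pullback.fst c (cO V K Ω) ≫ c ≫ toD k (pw π) =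
    (pullback.snd c (cO V K Ω) ≫ b ≫ Dm k zq) ≫ Dm k nz := by
  rw [← Category.assoc, pullback.condition, Category.assoc, hb.w, Category.assoc, Category.assoc,
    Dm_comp, zq_comp_nz]

/-- `T ×_V Ω ⟶ Z` -/
noncomputable def yZ : pullback c (cO V K Ω) ⟶ Z :=
  sqZ.lift (pullback.fst _ _) (pullback.snd _ _ ≫ b ≫ Dm k zq) (condZ π hb c)

theorem yZ_jZ : yZ π hb c sqZ ≫ jZ = pullback.fst _ _ := sqZ.lift_fst _ _ _

theorem yZ_u : yZ π hb c sqZ ≫ u = (pullback.snd _ _ ≫ b) ≫ Dm k zq := by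
  rw [yZ, sqZ.lift_snd, Category.assoc]

/-- `T ×_V Ω = Z ×_{k[ℤ]} k[ℚ]` -/
theorem isPullback_yZ : IsPullback (yZ π hb c sqZ) (pullback.snd c (cO V K Ω) ≫ b) u (Dm k zq) := by
  have h1 : IsPullback (pullback.fst c (cO V K Ω)) (pullback.snd c (cO V K Ω) ≫ b)
      (c ≫ toD k (pw π)) (Dm k (Nat.castAddMonoidHom ℚ)) :=
    (IsPullback.of_hasPullback c (cO V K Ω)).paste_vert hb
  refine IsPullback.of_right ?_ (yZ_u π hb c sqZ) sqZ
  rw [yZ_jZ, Dm_comp, zq_comp_nz]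
  exact h1

end Z

section S

/-- A morphism to `Spec k[M]` whose values on the constants and on the characters lie in a subfield
factors. -/
theorem exists_factor {M : Type} [AddCommMonoid M] (f : Spec (CommRingCat.of Ω) ⟶ D k M)
    (φ : AddMonoidAlgebra k M →+* Ω) (hφ : f = Spec.map (CommRingCat.ofHom φ))
    (h0 : ∀ r : k, φ (AddMonoidAlgebra.single 0 r) ∈ K')
    (h1 : ∀ m : M, φ (AddMonoidAlgebra.single m 1) ∈ K') :
    ∃ s : Spec (CommRingCat.of K') ⟶ D k M, iL K' ≫ s = f := by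
  have h : ∀ x, φ x ∈ K' := by
    intro x
    induction x using AddMonoidAlgebra.induction_on with
    | of m => exact h1 _
    | add x y hx hy => rw [map_add]; exact K'.add_mem hx hy
    | smul r x hx =>
      have : r • x = AddMonoidAlgebra.single 0 r * x := Algebra.smul_def r x
      rw [this, map_mul]
      exact K'.mul_mem (h0 r) hx
  refine ⟨Spec.map (CommRingCat.ofHom (φ.codRestrict K' h)), ?_⟩
  rw [iL, hφ]
  refine (Spec.map_comp _ _).symm.trans ?_
  rfl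

variable (hb : IsPullback (cO V K Ω) b (toD k (pw π)) (Dm k (Nat.castAddMonoidHom ℚ)))

include hb in
theorem beta_eq (β : AddMonoidAlgebra k ℚ →+* Ω) (hβ : b = Spec.map (CommRingCat.ofHom β))
    (x : AddMonoidAlgebra k ℕ) : β (rm k (Nat.castAddMonoidHom ℚ) x) =
      algebraMap K Ω (algebraMap V K (mk k (algebraMap k V) (pw π) x)) := by
  have h1 := hb.w
  rw [hβ, cO, toD, Dm] at h1
  have h2 : Spec.map (CommRingCat.ofHom (((algebraMap K Ω).comp (algebraMap V K)).comp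
      (mk k (algebraMap k V) (pw π)))) = Spec.map (CommRingCat.ofHom (β.comp
        (rm k (Nat.castAddMonoidHom ℚ)))) := by
    exact (Spec.map_comp (CommRingCat.ofHom (mk k (algebraMap k V) (pw π)))
      (CommRingCat.ofHom ((algebraMap K Ω).comp (algebraMap V K)))).trans
        (h1.trans (Spec.map_comp (CommRingCat.ofHom (rm k (Nat.castAddMonoidHom ℚ)))
          (CommRingCat.ofHom β)).symm)
  have h3 := congrArg CommRingCat.Hom.hom (Spec.map_injective h2)
  exact (RingHom.congr_fun h3 x).symm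

/-- `1 ↦ 1 / N` -/
noncomputable def lam (N : ℕ) : ℤ →+ ℚ := zmultiplesHom ℚ (1 / (N : ℚ))

theorem lam_apply (N : ℕ) (m : ℤ) : lam N m = m / (N : ℚ) := by
  rw [lam, zmultiplesHom_apply, zsmul_eq_mul, mul_one_div]

include hb in
theorem exists_s (N : ℕ) (hN : 0 < N)
    (hK' : ∀ (y : Ω) (a : K), y ^ N = algebraMap K Ω a → y ∈ K') :
    ∃ s : Spec (CommRingCat.of K') ⟶ D k ℤ, iL K' ≫ s = b ≫ Dm k (lam N) := by
  obtain ⟨β, hβ⟩ : ∃ β : AddMonoidAlgebra k ℚ →+* Ω, b = Spec.map (CommRingCat.ofHom β) :=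
    ⟨(Spec.preimage b).hom, (Spec.map_preimage b).symm⟩
  have hN' : (N : ℚ) ≠ 0 := by exact_mod_cast hN.ne'
  refine exists_factor K' (b ≫ Dm k (lam N)) (β.comp (rm k (lam N))) ?_ ?_ ?_
  · rw [hβ, Dm, CommRingCat.ofHom_comp]
    exact (Spec.map_comp _ _).symm
  · intro r
    have h1 := beta_eq π hb β hβ (AddMonoidAlgebra.single 0 r)
    rw [rm_single, map_zero] at h1
    rw [RingHom.comp_apply, rm_single, map_zero, h1]
    exact K'.algebraMap_mem _
  · intro m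
    have hpow : ∀ n : ℕ, β (AddMonoidAlgebra.single (n : ℚ) 1) =
        algebraMap K Ω (algebraMap V K (π ^ n)) := by
      intro n
      have h1 := beta_eq π hb β hβ (AddMonoidAlgebra.single n 1)
      rw [rm_single, mk_single, map_one, one_mul, pw_ofAdd] at h1
      exact h1
    have hz : ∃ a : K, β (AddMonoidAlgebra.single (m : ℚ) 1) = algebraMap K Ω a := by
      rcases Int.eq_nat_or_neg m with ⟨n, rfl | rfl⟩
      · exact ⟨_, by rw [Int.cast_natCast]; exact hpow n⟩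
      · refine ⟨(algebraMap V K (π ^ n))⁻¹, ?_⟩
        rw [map_inv₀, ← hpow n]
        apply eq_inv_of_mul_eq_one_left
        rw [← map_mul, AddMonoidAlgebra.single_mul_single, one_mul]
        simp only [Int.cast_neg, Int.cast_natCast, neg_add_cancel]
        exact map_one β
    obtain ⟨a, ha⟩ := hz
    refine hK' _ a ?_
    rw [← ha, RingHom.comp_apply, rm_single, lam_apply, ← map_pow, AddMonoidAlgebra.single_pow,
      one_pow]
    congr 2
    rw [nsmul_eq_mul, mul_div_cancel₀ _ hN']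

end S

section Fac

theorem cancel_iL {M : Type} [AddCommMonoid M]
    {f g : Spec (CommRingCat.of K') ⟶ D k M} (h : iL K' ≫ f = iL K' ≫ g) :
    f = g := by
  unfold D at f g h ⊢
  obtain ⟨φ, rfl⟩ := Spec.map_surjective f
  obtain ⟨ψ, rfl⟩ := Spec.map_surjective g
  congr 1
  have h1 : Spec.map (φ ≫ CommRingCat.ofHom (algebraMap K' Ω)) =
      Spec.map (ψ ≫ CommRingCat.ofHom (algebraMap K' Ω)) := by
    rw [Spec.map_comp, Spec.map_comp]
    exact h
  have h2 := Spec.map_injective h1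
  refine CommRingCat.hom_ext (RingHom.ext fun x => ?_)
  have h3 := congrArg (fun t => t.hom x) h2
  exact Subtype.ext h3

theorem lam_comp (N : ℕ) (hN : 0 < N) :
    (lam N).comp (AddMonoidHom.mulLeft (N : ℤ)) = zq := by
  have hN' : (N : ℚ) ≠ 0 := by exact_mod_cast hN.ne'
  ext
  rw [AddMonoidHom.comp_apply, AddMonoidHom.coe_mulLeft, lam_apply]
  push_cast
  rw [mul_one, div_self hN']
  simp

variable (hb : IsPullback (cO V K Ω) b (toD k (pw π)) (Dm k (Nat.castAddMonoidHom ℚ)))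
  {T : Scheme.{u}} (c : T ⟶ Spec (CommRingCat.of V)) {Z : Scheme.{u}} {jZ : Z ⟶ T} {u : Z ⟶ D k ℤ}
  (sqZ : IsPullback jZ u (c ≫ toD k (pw π)) (Dm k nz))
  (N : ℕ) (hN : 0 < N) {Y' : Scheme.{u}} {y'Z : Y' ⟶ Z} {s' : Y' ⟶ D k ℤ}
  (sq' : IsPullback y'Z s' u (Dm k (AddMonoidHom.mulLeft (N : ℤ))))

include hN in
omit [CommRing V] [Field K] [Algebra V K] [Algebra K Ω] [Algebra k V] in
theorem lam_mul : (b ≫ Dm k (lam N)) ≫ Dm k (AddMonoidHom.mulLeft (N : ℤ)) = b ≫ Dm k zq := by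
  rw [Category.assoc, Dm_comp, lam_comp N hN]

include hN in
theorem condP : yZ π hb c sqZ ≫ u =
    (pullback.snd c (cO V K Ω) ≫ b ≫ Dm k (lam N)) ≫ Dm k (AddMonoidHom.mulLeft (N : ℤ)) := by
  rw [yZ_u, Category.assoc, Category.assoc, lam_mul N hN]

/-- `T ×_V Ω ⟶ Y'` -/
noncomputable def pO : pullback c (cO V K Ω) ⟶ Y' :=
  sq'.lift (yZ π hb c sqZ) (pullback.snd _ _ ≫ b ≫ Dm k (lam N)) (condP π hb c sqZ N hN)

theorem pO_yZ : pO π hb c sqZ N hN sq' ≫ y'Z = yZ π hb c sqZ := sq'.lift_fst _ _ _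

theorem pO_s : pO π hb c sqZ N hN sq' ≫ s' = (pullback.snd _ _ ≫ b) ≫ Dm k (lam N) := by
  rw [pO, sq'.lift_snd, Category.assoc]

include hb sqZ hN sq' in
/-- `T ×_V Ω ⟶ Y'` factors through `T ×_V K'`. -/
theorem exists_e (hK' : ∀ (y : Ω) (a : K), y ^ N = algebraMap K Ω a → y ∈ K') :
    ∃ e : pullback c (cL V K') ⟶ Y', hC K' c ≫ e = pO π hb c sqZ N hN sq' := by
  obtain ⟨s, hs⟩ := exists_s K' π hb N hN hK'
  have h1 : cL V K' ≫ toD k (pw π) = (s ≫ Dm k (AddMonoidHom.mulLeft (N : ℤ))) ≫ Dm k nz := by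
    apply cancel_iL K'
    rw [← Category.assoc, iL_cL, hb.w, ← Category.assoc, ← Category.assoc, hs,
      lam_mul N hN, Category.assoc, Dm_comp, zq_comp_nz]
  have h2 : pullback.fst c (cL V K') ≫ c ≫ toD k (pw π) =
      (pullback.snd c (cL V K') ≫ s ≫ Dm k (AddMonoidHom.mulLeft (N : ℤ))) ≫ Dm k nz := by
    rw [← Category.assoc, pullback.condition, Category.assoc, h1]
    simp only [Category.assoc]
  let e1 : pullback c (cL V K') ⟶ Z := sqZ.lift _ _ h2
  have e1j : e1 ≫ jZ = pullback.fst _ _ := sqZ.lift_fst _ _ _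
  have e1u : e1 ≫ u = pullback.snd c (cL V K') ≫ s ≫ Dm k (AddMonoidHom.mulLeft (N : ℤ)) :=
    sqZ.lift_snd _ _ _
  let e : pullback c (cL V K') ⟶ Y' := sq'.lift e1 (pullback.snd _ _ ≫ s) (by
    rw [e1u, Category.assoc])
  have ef : e ≫ y'Z = e1 := sq'.lift_fst _ _ _
  have es : e ≫ s' = pullback.snd _ _ ≫ s := sq'.lift_snd _ _ _
  have h3 : hC K' c ≫ e1 = yZ π hb c sqZ := by
    apply sqZ.hom_ext
    · rw [Category.assoc, e1j, hC_fst, yZ_jZ]
    · rw [Category.assoc, e1u, ← Category.assoc, hC_snd, yZ_u, Category.assoc, Category.assoc,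
        ← Category.assoc (iL K'), hs, lam_mul N hN]
  refine ⟨e, ?_⟩
  apply sq'.hom_ext
  · rw [Category.assoc, ef, h3, pO_yZ]
  · rw [Category.assoc, es, ← Category.assoc, hC_snd, pO_s, Category.assoc, Category.assoc, hs]

include hb sqZ hN sq' in
/-- surjectivity for `T ×_V Ω ⟶ T ×_V K'` from surjectivity for `T ×_V Ω ⟶ Y'` -/
theorem surjective_HC_hC (hK' : ∀ (y : Ω) (a : K), y ^ N = algebraMap K Ω a → y ∈ K')
    (M : Type) [AddCommGroup M] (q : ℕ)
    (h : Function.Surjective (HC.HC M (pO π hb c sqZ N hN sq') q)) :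
    Function.Surjective (HC.HC M (hC K' c) q) := by
  obtain ⟨e, he⟩ := exists_e K' π hb c sqZ N hN sq' hK'
  intro x
  obtain ⟨y, hy⟩ := h x
  exact ⟨HC.HC M e q y, (HC.HC_HC M (hC K' c) e _ he q y).trans hy⟩

end Fac

end Groth.Agent.Sga7.H748.Glue
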