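import Groth.Agent.Sga7.H763.ToD
import Mathlib.LinearAlgebra.Basis.Defs
import Mathlib.Tactic.Ring

/-!
# Lattices: `Spec k[ℤ^C] = Spec k[ℕ^C][1/X^m]` and changes of bases

* `isPullback_m`: `Spec k[ℤ^C] = Spec k[ℕ^C] ×_{k[ℕ]} k[ℤ]` along the monomial `X^m`, `m_i > 0`;
* `phi`, `phiQ`, `isPullback_phi`: the change of lattice basis, compatibly with `ℤ ⊂ ℚ`.
-/

set_option autoImplicit false
universe u
open CategoryTheory CategoryTheory.Limits AlgebraicGeometry Opposite

namespace Groth.Agent.Sga7.H748.Lattice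

open Groth.Agent.Sga7.H763.Dia Groth.Agent.Sga7.H763.ToD

section Mono

variable {C : Type} [Fintype C]

variable (C) in
/-- `ℕ^C ⟶ ℤ^C` -/
abbrev nzC : (C → ℕ) →+ (C → ℤ) := (Nat.castAddMonoidHom ℤ).compLeft C

open Classical in
theorem chr_prod {S : Type*} [CommRing S] (χ : Multiplicative (C → ℕ) →* S) (z : C → ℕ) :
    χ (Multiplicative.ofAdd z) = ∏ i, χ (Multiplicative.ofAdd (Pi.single i 1)) ^ z i := by
  have h1 : z = ∑ i, z i • (Pi.single i 1 : C → ℕ) := by
    funext j
    rw [Finset.sum_apply, Finset.sum_eq_single j]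
    · simp
    · intro i _ hij
      simp [hij.symm]
    · intro h
      exact absurd (Finset.mem_univ j) h
  conv_lhs => rw [h1]
  rw [ofAdd_sum, map_prod]
  exact Finset.prod_congr rfl fun i _ => by rw [ofAdd_nsmul, map_pow]

open Classical in
/-- extension of characters -/
theorem exists_ext {S : Type*} [CommRing S] (χ : Multiplicative (C → ℕ) →* S)
    (hu : ∀ i, IsUnit (χ (Multiplicative.ofAdd (Pi.single i 1)))) :
    ∃ ω : Multiplicative (C → ℤ) →* S, ∀ z, ω (Multiplicative.ofAdd (nzC C z)) =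
      χ (Multiplicative.ofAdd z) := by
  choose u hu using hu
  refine ⟨{ toFun := fun z => ((∏ i, u i ^ (z.toAdd i) : Sˣ) : S)
            map_one' := by simp
            map_mul' := fun a b => by
              rw [← Units.val_mul, ← Finset.prod_mul_distrib]
              congr 2
              funext i
              rw [toAdd_mul, Pi.add_apply, zpow_add] }, fun z => ?_⟩
  rw [chr_prod χ z]
  change ((∏ i, u i ^ ((z i : ℕ) : ℤ) : Sˣ) : S) = _
  rw [Units.coe_prod]
  exact Finset.prod_congr rfl fun i _ => by rw [zpow_natCast, Units.val_pow_eq_pow_val, hu]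

variable {k : Type u} [Field k]

theorem isUnit_single {M : Type} [AddCommGroup M] {S : Type*} [CommRing S]
    (f : AddMonoidAlgebra k M →+* S) (z : M) : IsUnit (f (AddMonoidAlgebra.single z 1)) := by
  refine IsUnit.of_mul_eq_one (f (AddMonoidAlgebra.single (-z) 1)) ?_
  rw [← map_mul, AddMonoidAlgebra.single_mul_single, add_neg_cancel, one_mul]
  exact map_one f

/-- `k[N] ⟶ k[M]` is an epimorphism if `M` is a group generated by the image of `N`. -/
theorem epi_rm {M N : Type} [AddCommGroup M] [AddCommMonoid N] (a : N →+ M)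
    (ha : ∀ z : M, ∃ x y : N, z + a y = a x) {S : Type*} [CommRing S]
    {f g : AddMonoidAlgebra k M →+* S} (h : f.comp (rm k a) = g.comp (rm k a)) : f = g := by
  have h' : ∀ x : N, f (AddMonoidAlgebra.single (a x) 1) = g (AddMonoidAlgebra.single (a x) 1) := by
    intro x
    have := RingHom.congr_fun h (AddMonoidAlgebra.single x 1)
    simpa using this
  apply hom_ext'
  · intro r
    have := RingHom.congr_fun h (AddMonoidAlgebra.single 0 r)
    simpa using this
  · intro z
    obtain ⟨x, y, hxy⟩ := ha z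
    have h1 : ∀ t : AddMonoidAlgebra k M →+* S, t (AddMonoidAlgebra.single z 1) *
        t (AddMonoidAlgebra.single (a y) 1) = t (AddMonoidAlgebra.single (a x) 1) := by
      intro t
      rw [← map_mul, AddMonoidAlgebra.single_mul_single, hxy, one_mul]
    apply (isUnit_single f (a y)).mul_right_cancel
    rw [h1 f]
    conv_rhs => rw [h' y]
    rw [h1 g, h' x]

theorem gen_nz (z : ℤ) : ∃ x y : ℕ, z + Nat.castAddMonoidHom ℤ y = Nat.castAddMonoidHom ℤ x :=
  ⟨z.toNat, (-z).toNat, by simp only [Nat.coe_castAddMonoidHom]; omega⟩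

omit [Fintype C] in
theorem gen_nzC (z : C → ℤ) : ∃ x y : C → ℕ, z + nzC C y = nzC C x :=
  ⟨fun i => (z i).toNat, fun i => (-(z i)).toNat, by
    funext i
    simp only [Pi.add_apply, AddMonoidHom.compLeft_apply, Function.comp_apply,
      Nat.coe_castAddMonoidHom]
    omega⟩

/-- `n ↦ n • m` -/
abbrev muN (m : C → ℕ) : ℕ →+ (C → ℕ) := multiplesHom _ m

/-- `n ↦ n • m` -/
abbrev muZ (m : C → ℕ) : ℤ →+ (C → ℤ) := zmultiplesHom _ (fun i => (m i : ℤ))

omit [Fintype C] in
theorem nzC_muN (m : C → ℕ) : (nzC C).comp (muN m) = (muZ m).comp (Nat.castAddMonoidHom ℤ) := by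
  ext i
  simp

variable (k) in
theorem isPushout_m (m : C → ℕ) (hm : ∀ i, 0 < m i) :
    IsPushout (CommRingCat.ofHom (rm k (muN m))) (CommRingCat.ofHom (rm k (Nat.castAddMonoidHom ℤ)))
      (CommRingCat.ofHom (rm k (nzC C))) (CommRingCat.ofHom (rm k (muZ m))) := by
  classical
  have w : CommRingCat.ofHom (rm k (muN m)) ≫ CommRingCat.ofHom (rm k (nzC C)) =
      CommRingCat.ofHom (rm k (Nat.castAddMonoidHom ℤ)) ≫ CommRingCat.ofHom (rm k (muZ m)) := by
    rw [← CommRingCat.ofHom_comp, ← CommRingCat.ofHom_comp, ← rm_comp, ← rm_comp, nzC_muN]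
  have key : ∀ s : PushoutCocone (CommRingCat.ofHom (rm k (muN m)))
      (CommRingCat.ofHom (rm k (Nat.castAddMonoidHom ℤ))),
      ∃ ω : Multiplicative (C → ℤ) →* s.pt, ∀ z, ω (Multiplicative.ofAdd (nzC C z)) =
        chr s.inl.hom (Multiplicative.ofAdd z) := by
    intro s
    apply exists_ext
    intro i
    have hs : s.inl.hom.comp (rm k (muN m)) = s.inr.hom.comp (rm k (Nat.castAddMonoidHom ℤ)) :=
      congrArg CommRingCat.Hom.hom s.condition
    have h1 := RingHom.congr_fun hs (AddMonoidAlgebra.single 1 1)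
    have e1 : muN m 1 = m := one_smul ℕ m
    rw [RingHom.comp_apply, RingHom.comp_apply, rm_single, rm_single, e1, ← chr_apply,
      chr_prod] at h1
    have h2 : IsUnit (∏ i, chr s.inl.hom (Multiplicative.ofAdd (Pi.single i 1)) ^ m i) := by
      rw [h1]
      exact isUnit_single s.inr.hom _
    have h3 := isUnit_of_dvd_unit (Finset.dvd_prod_of_mem _ (Finset.mem_univ i)) h2
    exact (isUnit_pow_iff (hm i).ne').1 h3
  refine ⟨⟨w⟩, ⟨PushoutCocone.IsColimit.mk w ?_ ?_ ?_ ?_⟩⟩
  · intro s
    exact CommRingCat.ofHom (mk k (cst s.inl.hom) (key s).choose)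
  all_goals
    intro s
    have hs : s.inl.hom.comp (rm k (muN m)) = s.inr.hom.comp (rm k (Nat.castAddMonoidHom ℤ)) :=
      congrArg CommRingCat.Hom.hom s.condition
    have hω := (key s).choose_spec
    set ω := (key s).choose
    have h1 : (mk k (cst s.inl.hom) ω).comp (rm k (nzC C)) = s.inl.hom := by
      apply hom_ext'
      · intro r
        change mk k (cst s.inl.hom) ω (rm k _ _) = _
        rw [rm_single, map_zero, mk_single, ofAdd_zero, map_one, mul_one]
        rfl
      · intro m
        change mk k (cst s.inl.hom) ω (rm k _ _) = _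
        rw [rm_single, mk_single, map_one, one_mul, hω]
        rfl
  · apply CommRingCat.hom_ext
    exact h1
  · apply CommRingCat.hom_ext
    apply epi_rm (Nat.castAddMonoidHom ℤ) gen_nz
    change ((mk k (cst s.inl.hom) ω).comp (rm k (muZ m))).comp (rm k (Nat.castAddMonoidHom ℤ)) = _
    rw [RingHom.comp_assoc, ← rm_comp, ← nzC_muN, rm_comp, ← RingHom.comp_assoc, h1, hs]
  · intro t ht1 _
    have ht1' : t.hom.comp (rm k (nzC C)) = s.inl.hom := congrArg CommRingCat.Hom.hom ht1
    apply CommRingCat.hom_ext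
    apply epi_rm (nzC C) gen_nzC
    change _ = (mk k (cst s.inl.hom) ω).comp (rm k (nzC C))
    rw [h1, ht1']

variable (k) in
/-- inverting `X^m` inverts all the variables -/
theorem isPullback_m (m : C → ℕ) (hm : ∀ i, 0 < m i) :
    IsPullback (Dm k (nzC C)) (Dm k (muZ m)) (Dm k (muN m)) (Dm k (Nat.castAddMonoidHom ℤ)) :=
  isPullback_SpecMap_of_isPushout _ _ _ _ (isPushout_m k m hm)

end Mono

section Basis

variable {r : ℕ} {C : Type} [Fintype C] (b : Module.Basis (Fin (r + 1)) ℤ (C → ℤ))

/-- the coordinates in the basis `b` -/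
noncomputable def phi : (Fin (r + 1) → ℤ) ≃+ (C → ℤ) := b.equivFun.symm.toAddEquiv

omit [Fintype C] in
theorem phi_apply (x : Fin (r + 1) → ℤ) : phi b x = ∑ i, x i • b i := b.equivFun_symm_apply x

theorem phi_apply' (x : Fin (r + 1) → ℤ) (c : C) : phi b x c = ∑ i, x i * b i c := by
  rw [phi_apply, Finset.sum_apply]
  exact Finset.sum_congr rfl fun i _ => by rw [Pi.smul_apply, smul_eq_mul]

/-- the matrix over `ℚ` -/
noncomputable def phiQ0 : (Fin (r + 1) → ℚ) →+ (C → ℚ) where
  toFun x c := ∑ i, x i * (b i c : ℚ)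
  map_zero' := by
    funext c
    simp
  map_add' x y := by
    funext c
    simp [add_mul, Finset.sum_add_distrib]

open Classical in
/-- the inverse matrix over `ℚ` -/
noncomputable def psiQ0 : (C → ℚ) →+ (Fin (r + 1) → ℚ) where
  toFun z i := ∑ c, z c * ((phi b).symm (Pi.single c 1) i : ℚ)
  map_zero' := by
    funext c
    simp
  map_add' x y := by
    funext c
    simp [add_mul, Finset.sum_add_distrib]

open Classical in
theorem mat1 (c c' : C) : ∑ i, ((phi b).symm (Pi.single c 1) i) * b i c' =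
    (Pi.single c 1 : C → ℤ) c' := by
  rw [← phi_apply', AddEquiv.apply_symm_apply]

open Classical in
theorem mat2 (i j : Fin (r + 1)) : ∑ c, b i c * ((phi b).symm (Pi.single c 1) j) =
    (Pi.single i 1 : Fin (r + 1) → ℤ) j := by
  have h1 : b i = ∑ c, b i c • (Pi.single c 1 : C → ℤ) := by
    funext c'
    rw [Finset.sum_apply, Finset.sum_eq_single c']
    · simp
    · intro c _ hc
      simp [hc.symm]
    · intro h
      exact absurd (Finset.mem_univ c') h
  have h2 : (phi b).symm (b i) = Pi.single i 1 := by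
    rw [AddEquiv.symm_apply_eq, phi_apply, Finset.sum_eq_single i]
    · simp
    · intro j _ hj
      simp [hj]
    · intro h
      exact absurd (Finset.mem_univ i) h
  rw [← h2]
  conv_rhs => rw [h1]
  rw [map_sum, Finset.sum_apply]
  exact Finset.sum_congr rfl fun c _ => by rw [map_zsmul, Pi.smul_apply, smul_eq_mul]

/-- `phi` over `ℚ` -/
noncomputable def phiQ : (Fin (r + 1) → ℚ) ≃+ (C → ℚ) where
  toFun := phiQ0 b
  invFun := psiQ0 b
  left_inv x := by
    classical
    funext j
    change ∑ c, (∑ i, x i * (b i c : ℚ)) * ((phi b).symm (Pi.single c 1) j : ℚ) = x j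
    simp only [Finset.sum_mul]
    rw [Finset.sum_comm]
    have h1 : ∀ i, ∑ c, x i * (b i c : ℚ) * ((phi b).symm (Pi.single c 1) j : ℚ) =
        x i * ((Pi.single i 1 : Fin (r + 1) → ℤ) j : ℚ) := by
      intro i
      rw [← mat2 b i j]
      push_cast
      rw [Finset.mul_sum]
      exact Finset.sum_congr rfl fun c _ => by ring
    simp only [h1]
    rw [Finset.sum_eq_single j]
    · simp
    · intro i _ hi
      simp [hi.symm]
    · intro h
      exact absurd (Finset.mem_univ j) h
  right_inv z := by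
    classical
    funext c'
    change ∑ i, (∑ c, z c * ((phi b).symm (Pi.single c 1) i : ℚ)) * (b i c' : ℚ) = z c'
    simp only [Finset.sum_mul]
    rw [Finset.sum_comm]
    have h1 : ∀ c, ∑ i, z c * ((phi b).symm (Pi.single c 1) i : ℚ) * (b i c' : ℚ) =
        z c * ((Pi.single c 1 : C → ℤ) c' : ℚ) := by
      intro c
      rw [← mat1 b c c']
      push_cast
      rw [Finset.mul_sum]
      exact Finset.sum_congr rfl fun i _ => by ring
    simp only [h1]
    rw [Finset.sum_eq_single c']
    · simp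
    · intro i _ hi
      simp [hi.symm]
    · intro h
      exact absurd (Finset.mem_univ c') h
  map_add' := map_add (phiQ0 b)

theorem phiQ_comp : (phiQ b).toAddMonoidHom.comp ((Int.castAddHom ℚ).compLeft (Fin (r + 1))) =
    ((Int.castAddHom ℚ).compLeft C).comp (phi b).toAddMonoidHom := by
  refine AddMonoidHom.ext fun x => funext fun c => ?_
  change ∑ i, (x i : ℚ) * (b i c : ℚ) = (phi b x c : ℚ)
  rw [phi_apply']
  push_cast
  rfl

variable (k : Type u) [Field k]

/-- change of basis -/
theorem isPullback_phi : IsPullback (Dm k ((Int.castAddHom ℚ).compLeft C))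
    (Dm k (phiQ b).toAddMonoidHom) (Dm k (phi b).toAddMonoidHom)
    (Dm k ((Int.castAddHom ℚ).compLeft (Fin (r + 1)))) := by
  have i1 : IsIso (Dm k (phiQ b).toAddMonoidHom) := (Diso k (phiQ b)).isIso_hom
  have i2 : IsIso (Dm k (phi b).toAddMonoidHom) := (Diso k (phi b)).isIso_hom
  exact IsPullback.of_vert_isIso ⟨by rw [Dm_comp, Dm_comp, phiQ_comp]⟩

end Basis

end Groth.Agent.Sga7.H748.Lattice
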