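import Mathlib.CategoryTheory.Abelian.Injective.Ext
import Mathlib.Algebra.Homology.DerivedCategory.Ext.ExactSequences
import Mathlib.Algebra.Homology.DerivedCategory.Ext.EnoughInjectives
import Mathlib.CategoryTheory.Abelian.RightDerived

/-!
# Compositions of endomorphisms which vanish on the cohomology of a complex

Let `K` be a cochain complex in an abelian category whose terms have no higher `Ext^i(P, -)`, and
`φ_0, φ_1, …` endomorphisms of `K` such that `H^q(φ_q)` induces zero on `Ext^p(P, H^q(K))` for all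
`p + q = n`.  Then `φ_n ≫ ⋯ ≫ φ_0` induces zero on `H^n(Hom(P, K))` (elementary form of the spectral
sequence of hypercohomology; `exists_of_comp`).  Consequence for an injective resolution and a left
exact functor `G` with exact left adjoint `L`: `ext_comp_eq_zero`.
-/

set_option autoImplicit false
universe w w' v u v' u'

open CategoryTheory CategoryTheory.Limits CategoryTheory.Abelian

namespace Groth.Agent.Sga7.H748.LerayNil

section Complex

variable {B : Type u} [Category.{v} B] [Abelian B]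

variable (K : CochainComplex B ℕ)

/-- the object of coboundaries -/
noncomputable abbrev bd (q : ℕ) : B := kernel (K.homologyπ q)

/-- `K^q → B^{q+1}` -/
noncomputable def toBd (q : ℕ) : K.X q ⟶ bd K (q + 1) :=
  kernel.lift _ (K.toCycles q (q + 1)) (K.toCycles_comp_homologyπ q (q + 1))

lemma toBd_ι (q : ℕ) : toBd K q ≫ kernel.ι (K.homologyπ (q + 1)) = K.toCycles q (q + 1) :=
  kernel.lift_ι _ _ _

instance epi_toBd (q : ℕ) : Epi (toBd K q) := by
  have h : (ShortComplex.mk (K.toCycles q (q + 1)) (K.homologyπ (q + 1))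
      (K.toCycles_comp_homologyπ q (q + 1))).Exact :=
    ShortComplex.exact_of_g_is_cokernel _ (K.homologyIsCokernel q (q + 1) (by simp))
  exact ShortComplex.exact_iff_epi_kernel_lift _ |>.1 h

/-- `0 → B^q → Z^q → H^q → 0` -/
noncomputable def S₁ (q : ℕ) : ShortComplex B :=
  ShortComplex.mk (kernel.ι (K.homologyπ q)) (K.homologyπ q) (kernel.condition _)

lemma S₁_shortExact (q : ℕ) : (S₁ K q).ShortExact where
  exact := ShortComplex.exact_kernel _
  mono_f := inferInstanceAs (Mono (kernel.ι (K.homologyπ q)))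
  epi_g := inferInstanceAs (Epi (K.homologyπ q))

lemma iCycles_toBd (q : ℕ) : K.iCycles q ≫ toBd K q = 0 := by
  rw [← cancel_mono (kernel.ι (K.homologyπ (q + 1))), Category.assoc, toBd_ι,
    ← cancel_mono (K.iCycles (q + 1)), Category.assoc, K.toCycles_i, K.iCycles_d, zero_comp, zero_comp]

/-- `0 → Z^q → K^q → B^{q+1} → 0` -/
noncomputable def S₂ (q : ℕ) : ShortComplex B :=
  ShortComplex.mk (K.iCycles q) (toBd K q) (iCycles_toBd K q)

lemma S₂_shortExact (q : ℕ) : (S₂ K q).ShortExact where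
  exact := by
    have h : (ShortComplex.mk (K.iCycles q) (K.d q (q + 1)) (K.iCycles_d q (q + 1))).Exact :=
      ShortComplex.exact_of_f_is_kernel _ (K.cyclesIsKernel q (q + 1) (by simp))
    let α : S₂ K q ⟶ ShortComplex.mk (K.iCycles q) (K.d q (q + 1)) (K.iCycles_d q (q + 1)) :=
      { τ₁ := 𝟙 _
        τ₂ := 𝟙 _
        τ₃ := kernel.ι (K.homologyπ (q + 1)) ≫ K.iCycles (q + 1)
        comm₁₂ := (Category.id_comp _).trans (Category.comp_id _).symm
        comm₂₃ := by
          refine (Category.id_comp _).trans ?_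
          refine Eq.trans (K.toCycles_i q (q + 1)).symm ?_
          rw [← toBd_ι, Category.assoc]
          rfl }
    have : Mono α.τ₃ := inferInstanceAs (Mono (kernel.ι (K.homologyπ (q + 1)) ≫ K.iCycles (q + 1)))
    have : IsIso α.τ₂ := inferInstanceAs (IsIso (𝟙 _))
    have : Epi α.τ₁ := inferInstanceAs (Epi (𝟙 _))
    exact (ShortComplex.exact_iff_of_epi_of_isIso_of_mono α).2 h
  mono_f := inferInstanceAs (Mono (K.iCycles q))
  epi_g := epi_toBd K q

variable {K} (a : K ⟶ K)

/-- the action on coboundaries -/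
noncomputable def bdMap (q : ℕ) : bd K q ⟶ bd K q :=
  kernel.map _ _ (HomologicalComplex.cyclesMap a q) (HomologicalComplex.homologyMap a q)
    (HomologicalComplex.homologyπ_naturality a q)

lemma bdMap_ι (q : ℕ) : bdMap a q ≫ kernel.ι (K.homologyπ q) =
    kernel.ι (K.homologyπ q) ≫ HomologicalComplex.cyclesMap a q := kernel.lift_ι _ _ _

lemma toBd_bdMap (q : ℕ) : toBd K q ≫ bdMap a (q + 1) = a.f q ≫ toBd K q := by
  rw [← cancel_mono (kernel.ι (K.homologyπ (q + 1))), Category.assoc, bdMap_ι, ← Category.assoc,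
    toBd_ι, Category.assoc, toBd_ι, ← cancel_mono (K.iCycles (q + 1)), Category.assoc, Category.assoc,
    HomologicalComplex.cyclesMap_i, K.toCycles_i, ← Category.assoc, K.toCycles_i, a.comm]

/-- action on `S₂` -/
noncomputable def S₂Map (q : ℕ) : S₂ K q ⟶ S₂ K q where
  τ₁ := HomologicalComplex.cyclesMap a q
  τ₂ := a.f q
  τ₃ := bdMap a (q + 1)
  comm₁₂ := HomologicalComplex.cyclesMap_i a q
  comm₂₃ := (toBd_bdMap a q).symm

end Complex

section Main

variable {B : Type u} [Category.{v} B] [Abelian B] [HasExt.{w} B] {K : CochainComplex B ℕ}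

/-- `comp φ q = φ q ≫ ⋯ ≫ φ 0` -/
noncomputable def comp (φ : ℕ → (K ⟶ K)) : ℕ → (K ⟶ K)
  | 0 => φ 0
  | q + 1 => φ (q + 1) ≫ comp φ q

variable (P : B) (φ : ℕ → (K ⟶ K))

omit [HasExt.{w} B] in
lemma cyclesMap_comp_succ (q r : ℕ) : HomologicalComplex.cyclesMap (comp φ (q + 1)) r =
    HomologicalComplex.cyclesMap (φ (q + 1)) r ≫ HomologicalComplex.cyclesMap (comp φ q) r :=
  HomologicalComplex.cyclesMap_comp _ _ _

/-- naturality of the connecting map -/
lemma ext_S₂ (q p : ℕ) (z : Ext P (bd K (q + 1)) p) (a : K ⟶ K) :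
    (z.comp (S₂_shortExact K q).extClass rfl).comp
      (Ext.mk₀ (HomologicalComplex.cyclesMap a q)) (add_zero (p + 1)) =
    (z.comp (Ext.mk₀ (bdMap a (q + 1))) (add_zero p)).comp (S₂_shortExact K q).extClass rfl := by
  have h := ShortComplex.ShortExact.extClass_naturality (S₂_shortExact K q) (S₂_shortExact K q)
    (S₂Map a q)
  rw [Ext.comp_assoc_of_third_deg_zero]
  refine (congrArg (fun t => z.comp t rfl) h).trans ?_
  exact (Ext.comp_assoc_of_second_deg_zero _ _ _ _).symm

lemma exists_bd (q p : ℕ) (y : Ext P (K.cycles q) p)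
    (h : y.comp (Ext.mk₀ (K.homologyπ q)) (add_zero p) = 0) :
    ∃ z : Ext P (bd K q) p, z.comp (Ext.mk₀ (kernel.ι (K.homologyπ q))) (add_zero p) = y :=
  Ext.covariant_sequence_exact₂ P (S₁_shortExact K q) y h

/-- the case of positive degree `p` -/
theorem comp_eq_zero (hK : ∀ i p, Subsingleton (Ext P (K.X i) (p + 1))) (q : ℕ) : ∀ (p : ℕ)
    (_ : ∀ q' p', p' + q' = p + 1 + q → ∀ x : Ext P (K.homology q') p',
      x.comp (Ext.mk₀ (HomologicalComplex.homologyMap (φ q') q')) (add_zero p') = 0)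
    (y : Ext P (K.cycles q) (p + 1)),
    y.comp (Ext.mk₀ (HomologicalComplex.cyclesMap (comp φ q) q)) (add_zero (p + 1)) = 0 := by
  induction q with
  | zero =>
    intro p hH y
    have h1 : (y.comp (Ext.mk₀ (HomologicalComplex.cyclesMap (φ 0) 0)) (add_zero (p + 1))).comp
        (Ext.mk₀ (K.homologyπ 0)) (add_zero (p + 1)) = 0 := by
      rw [Ext.comp_assoc_of_third_deg_zero, Ext.mk₀_comp_mk₀,
        ← HomologicalComplex.homologyπ_naturality, ← Ext.mk₀_comp_mk₀,
        ← Ext.comp_assoc_of_third_deg_zero]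
      exact hH 0 (p + 1) rfl _
    have : IsIso (K.homologyπ 0) := inferInstance
    have h2 : y.comp (Ext.mk₀ (HomologicalComplex.cyclesMap (φ 0) 0)) (add_zero (p + 1)) =
        ((y.comp (Ext.mk₀ (HomologicalComplex.cyclesMap (φ 0) 0)) (add_zero (p + 1))).comp
        (Ext.mk₀ (K.homologyπ 0)) (add_zero (p + 1))).comp (Ext.mk₀ (inv (K.homologyπ 0)))
          (add_zero (p + 1)) := by
      rw [Ext.comp_assoc_of_third_deg_zero (γ := Ext.mk₀ (inv (K.homologyπ 0))), Ext.mk₀_comp_mk₀,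
        IsIso.hom_inv_id, Ext.comp_mk₀_id]
    refine h2.trans ?_
    rw [h1, Ext.zero_comp]
  | succ q ih =>
    intro p hH y
    have h1 : (y.comp (Ext.mk₀ (HomologicalComplex.cyclesMap (φ (q + 1)) (q + 1)))
        (add_zero (p + 1))).comp (Ext.mk₀ (K.homologyπ (q + 1))) (add_zero (p + 1)) = 0 := by
      rw [Ext.comp_assoc_of_third_deg_zero, Ext.mk₀_comp_mk₀,
        ← HomologicalComplex.homologyπ_naturality, ← Ext.mk₀_comp_mk₀,
        ← Ext.comp_assoc_of_third_deg_zero]
      exact hH (q + 1) (p + 1) rfl _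
    obtain ⟨z, hz⟩ := exists_bd P (q + 1) (p + 1) _ h1
    have h2 := (ext_S₂ P q (p + 1) z (comp φ q)).symm.trans
      (ih (p + 1) (fun q' p' h => hH q' p' (by omega)) (z.comp (S₂_shortExact K q).extClass rfl))
    obtain ⟨w, hw⟩ := Ext.covariant_sequence_exact₃ P (S₂_shortExact K q) _ rfl h2
    have hw0 : w = 0 := (hK q p).elim _ _
    have h3 : z.comp (Ext.mk₀ (bdMap (comp φ q) (q + 1))) (add_zero (p + 1)) = 0 := by
      refine hw.symm.trans ?_
      rw [hw0]
      exact Ext.zero_comp (β := Ext.mk₀ (S₂ K q).g) ..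
    rw [cyclesMap_comp_succ, ← Ext.mk₀_comp_mk₀, ← Ext.comp_assoc_of_third_deg_zero, ← hz,
      Ext.comp_assoc_of_third_deg_zero, Ext.mk₀_comp_mk₀, ← bdMap_ι, ← Ext.mk₀_comp_mk₀,
      ← Ext.comp_assoc_of_third_deg_zero, h3, Ext.zero_comp]

/-- the case `p = 0` -/
theorem exists_of_comp (hK : ∀ i p, Subsingleton (Ext P (K.X i) (p + 1))) (n : ℕ)
    (hH : ∀ q' p', p' + q' = n + 1 → ∀ x : Ext P (K.homology q') p',
      x.comp (Ext.mk₀ (HomologicalComplex.homologyMap (φ q') q')) (add_zero p') = 0)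
    (y : P ⟶ K.cycles (n + 1)) : ∃ w : P ⟶ K.X n,
      y ≫ HomologicalComplex.cyclesMap (comp φ (n + 1)) (n + 1) = w ≫ K.toCycles n (n + 1) := by
  have h1 : ((Ext.mk₀ y).comp (Ext.mk₀ (HomologicalComplex.cyclesMap (φ (n + 1)) (n + 1)))
      (add_zero 0)).comp (Ext.mk₀ (K.homologyπ (n + 1))) (add_zero 0) = 0 := by
    rw [Ext.comp_assoc_of_third_deg_zero, Ext.mk₀_comp_mk₀,
      ← HomologicalComplex.homologyπ_naturality, ← Ext.mk₀_comp_mk₀,
      ← Ext.comp_assoc_of_third_deg_zero]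
    exact hH (n + 1) 0 (by omega) _
  obtain ⟨z, hz⟩ := exists_bd P (n + 1) 0 _ h1
  have h2 := (ext_S₂ P n 0 z (comp φ n)).symm.trans
    (comp_eq_zero P φ hK n 0 (fun q' p' h => hH q' p' (by omega))
      (z.comp (S₂_shortExact K n).extClass rfl))
  obtain ⟨w, hw⟩ := Ext.covariant_sequence_exact₃ P (S₂_shortExact K n) _ rfl h2
  obtain ⟨w, rfl⟩ := (Ext.mk₀_bijective P (K.X n)).2 w
  refine ⟨w, (Ext.mk₀_bijective _ _).1 ?_⟩
  have hw' : (Ext.mk₀ w).comp (Ext.mk₀ (toBd K n)) (add_zero 0) =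
      z.comp (Ext.mk₀ (bdMap (comp φ n) (n + 1))) (add_zero 0) := hw
  rw [cyclesMap_comp_succ, ← Category.assoc, ← Ext.mk₀_comp_mk₀, ← Ext.mk₀_comp_mk₀, ← hz,
    Ext.comp_assoc_of_third_deg_zero, Ext.mk₀_comp_mk₀, ← bdMap_ι, ← Ext.mk₀_comp_mk₀,
      ← Ext.comp_assoc_of_third_deg_zero, ← hw', ← toBd_ι, Ext.mk₀_comp_mk₀, Ext.mk₀_comp_mk₀,
      Category.assoc]

omit [HasExt.{w} B] in
/-- the case `n = 0` -/
theorem comp_zero_eq_zero
    (hH : ∀ x : P ⟶ K.homology 0, x ≫ HomologicalComplex.homologyMap (φ 0) 0 = 0)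
    (y : P ⟶ K.cycles 0) : y ≫ HomologicalComplex.cyclesMap (comp φ 0) 0 = 0 := by
  have : IsIso (K.homologyπ 0) := inferInstance
  rw [← cancel_mono (K.homologyπ 0), Category.assoc]
  change y ≫ HomologicalComplex.cyclesMap (φ 0) 0 ≫ K.homologyπ 0 = _
  rw [← HomologicalComplex.homologyπ_naturality, ← Category.assoc, hH, zero_comp]

end Main

section Functor

variable {A : Type u} [Category.{v} A] [Abelian A] [HasExt.{w} A] [EnoughInjectives A]
  {B : Type u'} [Category.{v'} B] [Abelian B] [HasExt.{w'} B]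
  {L : B ⥤ A} {G : A ⥤ B} (adj : L ⊣ G) [G.Additive] [L.PreservesMonomorphisms]

/-- `compF ψ q = ψ q ≫ ⋯ ≫ ψ 0` -/
noncomputable def compF {F : A} (ψ : ℕ → (F ⟶ F)) : ℕ → (F ⟶ F)
  | 0 => ψ 0
  | q + 1 => ψ (q + 1) ≫ compF ψ q

omit [HasExt.{w} A] [EnoughInjectives A] in
lemma compF_lift {F : A} (ψ : ℕ → (F ⟶ F)) (I : InjectiveResolution F) (n : ℕ) :
    I.ι.f 0 ≫ (comp (fun q => InjectiveResolution.desc (ψ q) I I) n).f 0 =
      ((CochainComplex.single₀ A).map (compF ψ n)).f 0 ≫ I.ι.f 0 := by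
  induction n with
  | zero => exact HomologicalComplex.congr_hom (InjectiveResolution.desc_commutes (ψ 0) I I) 0
  | succ n ih =>
    change I.ι.f 0 ≫ (InjectiveResolution.desc (ψ (n + 1)) I I ≫ comp _ n).f 0 =
      ((CochainComplex.single₀ A).map (ψ (n + 1) ≫ compF ψ n)).f 0 ≫ I.ι.f 0
    have h := HomologicalComplex.congr_hom (InjectiveResolution.desc_commutes (ψ (n + 1)) I I) 0
    rw [HomologicalComplex.comp_f, ← Category.assoc]
    rw [HomologicalComplex.comp_f, HomologicalComplex.comp_f] at h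
    rw [h, Category.assoc, ih, Functor.map_comp, HomologicalComplex.comp_f, Category.assoc]

omit [HasExt.{w} A] [EnoughInjectives A] [HasExt.{w'} B] in
lemma map_comp_eq {K : CochainComplex A ℕ} (φ : ℕ → (K ⟶ K)) (n : ℕ) :
    comp (fun q => (G.mapHomologicalComplex _).map (φ q)) n =
      (G.mapHomologicalComplex _).map (comp φ n) := by
  induction n with
  | zero => rfl
  | succ n ih =>
    change (G.mapHomologicalComplex _).map (φ (n + 1)) ≫ comp _ n =
      (G.mapHomologicalComplex _).map (φ (n + 1) ≫ comp φ n)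
    rw [ih, Functor.map_comp]

include adj in
/-- **Leray nilpotence.**  If `R^q G (ψ q)` induces zero on `Ext^p(P, R^q G F)` for all `p + q = n`,
then `ψ n ≫ ⋯ ≫ ψ 0` induces zero on `Ext^n(L P, F)`. -/
theorem ext_comp_eq_zero {F : A} (ψ : ℕ → (F ⟶ F)) (P : B) (n : ℕ)
    (h : ∀ p q, p + q = n → ∀ x : Ext P ((G.rightDerived q).obj F) p,
      x.comp (Ext.mk₀ ((G.rightDerived q).map (ψ q))) (add_zero p) = 0)
    (x : Ext (L.obj P) F n) : x.comp (Ext.mk₀ (compF ψ n)) (add_zero n) = 0 := by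
  let I : InjectiveResolution F := injectiveResolution F
  let φ : ℕ → (I.cocomplex ⟶ I.cocomplex) := fun q => InjectiveResolution.desc (ψ q) I I
  let K : CochainComplex B ℕ := (G.mapHomologicalComplex _).obj I.cocomplex
  let Φ : ℕ → (K ⟶ K) := fun q => (G.mapHomologicalComplex _).map (φ q)
  have hK : ∀ i p, Subsingleton (Ext P (K.X i) (p + 1)) := fun i p => by
    have : Injective (K.X i) := Injective.injective_of_adjoint adj (I.cocomplex.X i)
    exact Ext.subsingleton_of_injective _ _ _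
  have hH : ∀ q' p', p' + q' = n → ∀ x : Ext P (K.homology q') p',
      x.comp (Ext.mk₀ (HomologicalComplex.homologyMap (Φ q') q')) (add_zero p') = 0 := by
    intro q p hpq y
    let e : (G.rightDerived q).obj F ≅ K.homology q := I.isoRightDerivedObj G q
    have h1 := h p q hpq (y.comp (Ext.mk₀ e.inv) (add_zero p))
    have h2 : e.inv ≫ (G.rightDerived q).map (ψ q) =
        HomologicalComplex.homologyMap (Φ q) q ≫ e.inv :=
      InjectiveResolution.isoRightDerivedObj_inv_naturality (ψ q) I I (φ q)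
        (InjectiveResolution.desc_commutes_zero (ψ q) I I) G q
    rw [Ext.comp_assoc_of_third_deg_zero, Ext.mk₀_comp_mk₀, h2, ← Ext.mk₀_comp_mk₀,
      ← Ext.comp_assoc_of_third_deg_zero] at h1
    have h3 := congrArg (fun t => t.comp (Ext.mk₀ e.hom) (add_zero p)) h1
    simp only [Ext.zero_comp] at h3
    rw [Ext.comp_assoc_of_third_deg_zero (γ := Ext.mk₀ e.hom),
      Ext.mk₀_comp_mk₀, Iso.inv_hom_id, Ext.comp_mk₀_id] at h3
    exact h3
  obtain ⟨f, hf, rfl⟩ := I.extMk_surjective x (n + 1) rfl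
  let ch : InjectiveResolution.Hom I I (compF ψ n) := ⟨comp φ n, compF_lift ψ I n⟩
  rw [InjectiveResolution.extMk_comp_mk₀ f (n + 1) rfl hf ch]
  let y₀ : P ⟶ K.X n := adj.homEquiv _ _ f
  have hy₀ : y₀ ≫ K.d n (n + 1) = 0 := by
    change (adj.homEquiv _ _ f) ≫ G.map (I.cocomplex.d n (n + 1)) = 0
    rw [← Adjunction.homEquiv_naturality_right, hf]
    rw [Adjunction.homEquiv_unit, G.map_zero, comp_zero]
  let y : P ⟶ K.cycles n := K.liftCycles y₀ (n + 1) (by simp) hy₀
  have hΦ : ∀ i, (comp Φ n).f i = G.map ((comp φ n).f i) := fun i => by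
    have : comp Φ n = (G.mapHomologicalComplex _).map (comp φ n) := map_comp_eq φ n
    rw [this]
    rfl
  have e0 : adj.homEquiv _ _ (f ≫ (comp φ n).f n) =
      (y ≫ HomologicalComplex.cyclesMap (comp Φ n) n) ≫ K.iCycles n := by
    rw [Adjunction.homEquiv_naturality_right, Category.assoc, HomologicalComplex.cyclesMap_i,
      ← Category.assoc, HomologicalComplex.liftCycles_i, hΦ]
    rfl
  rcases n with _ | n
  · have h1 := comp_zero_eq_zero P Φ (fun z => by
      apply (Ext.mk₀_bijective _ _).1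
      rw [← Ext.mk₀_comp_mk₀, Ext.mk₀_zero]
      exact hH 0 0 rfl (Ext.mk₀ z)) y
    rw [h1, zero_comp] at e0
    have h2 : f ≫ (comp φ 0).f 0 = 0 := by
      apply (adj.homEquiv _ _).injective
      rw [e0, Adjunction.homEquiv_unit, G.map_zero, comp_zero]
      rfl
    change I.extMk (f ≫ (comp φ 0).f 0) _ _ _ = 0
    simp only [h2]
    exact I.extMk_zero _ _
  · obtain ⟨w, hw⟩ := exists_of_comp P Φ hK n hH y
    rw [hw, Category.assoc, K.toCycles_i] at e0
    refine (I.extMk_eq_zero_iff _ _ _ _ n rfl).2 ⟨(adj.homEquiv _ _).symm w, ?_⟩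
    apply (adj.homEquiv _ _).injective
    rw [Adjunction.homEquiv_naturality_right, Equiv.apply_symm_apply]
    exact e0.symm

end Functor

end Groth.Agent.Sga7.H748.LerayNil
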