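import Groth.Prelude.Def_SGA7I
import Groth.Agent.Sga7.H748.Geo
import Groth.Agent.Sga7.H111.NormalForm
import Groth.Agent.Sga7.H431.CoeffField
import Groth.Agent.Sga7.H397.LatBasis
import Groth.Agent.Sga7.H217.PuiseuxSq
import Groth.Agent.EtpbcB.OshHens

/-!
# The local situation of S4068 and S4083 in terms of rings
-/

set_option autoImplicit false
universe u
open CategoryTheory CategoryTheory.Limits AlgebraicGeometry Opposite IsLocalRing

namespace Groth.Agent.Sga7.H748.LocData

open Groth.Agent.Sga7.H763.Dia Groth.Agent.Sga7.H763.ToD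
open Groth.Agent.Sga7.H748.Geo

section Stalk

variable {V : Type u} [CommRing V] {X : Scheme.{u}} (f : X ⟶ Spec (CommRingCat.of V)) (x : ↥X)

/-- `V ⟶ O_{X, x}` -/
noncomputable def vO : CommRingCat.of V ⟶ X.presheaf.stalk x :=
  StructureSheaf.toStalk V (f.base x) ≫ f.stalkMap x

theorem map_vO : Spec.map (vO f x) = X.fromSpecStalk x ≫ f := by
  rw [vO, Spec.map_comp, ← Scheme.SpecMap_stalkMap_fromSpecStalk]
  congr 1
  exact (Spec.fromSpecStalk_eq' (CommRingCat.of V) (f.base x)).symm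

theorem map_max (V : Type u) [CommRing V] [IsLocalRing V] (y : PrimeSpectrum V)
    (hy : y = closedPoint V) (S : Type u) [CommRing S] [IsLocalRing S] [Algebra V S]
    [IsLocalization.AtPrime S y.asIdeal] :
    Ideal.map (algebraMap V S) (maximalIdeal V) = maximalIdeal S := by
  subst hy
  exact IsLocalization.AtPrime.map_eq_maximalIdeal (closedPoint V).asIdeal S

theorem max_vO [IsLocalRing V] (hx : f.base x = closedPoint V) :
    Ideal.map (vO f x).hom (maximalIdeal V) = Ideal.map (f.stalkMap x).hom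
      (maximalIdeal ↑((Spec (CommRingCat.of V)).presheaf.stalk (f.base x))) := by
  have h1 : Ideal.map (StructureSheaf.toStalk V (f.base x)).hom (maximalIdeal V) =
      maximalIdeal ↑((Spec (CommRingCat.of V)).presheaf.stalk (f.base x)) := by
    let _ : Algebra V ↑((Spec (CommRingCat.of V)).presheaf.stalk (f.base x)) :=
      StructureSheaf.stalkAlgebra V (f.base x)
    have : IsLocalization.AtPrime ↑((Spec (CommRingCat.of V)).presheaf.stalk (f.base x))
        (f.base x).asIdeal := inferInstanceAs (IsLocalization.AtPrime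
          ((Spec.structureSheaf V).presheaf.stalk (f.base x)) (f.base x).asIdeal)
    exact map_max V (f.base x) hx ↑((Spec (CommRingCat.of V)).presheaf.stalk (f.base x))
  rw [← h1]
  exact (Ideal.map_map _ _).symm

theorem isLocalHom_vO [IsLocalRing V] (hx : f.base x = closedPoint V) :
    IsLocalHom (vO f x).hom := by
  rw [isLocalHom_iff_comap_closedPoint]
  have h1 : Spec.map (vO f x) (closedPoint (X.presheaf.stalk x)) = f.base x := by
    rw [map_vO]
    change f.base ((X.fromSpecStalk x) (closedPoint _)) = f.base x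
    rw [Scheme.fromSpecStalk_closedPoint]
  exact h1.trans hx

end Stalk

section Data

open Classical in
theorem one_le_card {V : Type u} [CommRing V] [IsLocalRing V] {X : Scheme.{u}}
    (f : X ⟶ Spec (CommRingCat.of V)) {J : Type} [Fintype J] (ξ : J → ↥X) (m : J → ℕ)
    (x : ↥X) (t : {i : J // ξ i ⤳ x} → ↑(X.presheaf.stalk x))
    (h : Ideal.map (f.stalkMap x).hom (IsLocalRing.maximalIdeal ↑((Spec (CommRingCat.of V)).presheaf.stalk (f.base x))) =
          Ideal.span {∏ i : {i : J // ξ i ⤳ x}, t i ^ m i.1}) :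
    1 ≤ Nat.card {i : J // ξ i ⤳ x} := by
  rw [Nat.one_le_iff_ne_zero]
  intro h0
  have hE : IsEmpty {i : J // ξ i ⤳ x} := by
    rcases Nat.card_eq_zero.1 h0 with h1 | h1
    · exact h1
    · exact absurd (inferInstance : Finite {i : J // ξ i ⤳ x}) h1.not_finite
  rw [Finset.univ_eq_empty, Finset.prod_empty, Ideal.span_singleton_one] at h
  have h2 : Ideal.map (f.stalkMap x).hom (IsLocalRing.maximalIdeal
      ↑((Spec (CommRingCat.of V)).presheaf.stalk (f.base x))) ≤
      IsLocalRing.maximalIdeal ↑(X.presheaf.stalk x) := by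
    have h3 : IsLocalHom (f.stalkMap x).hom := inferInstance
    exact ((IsLocalRing.local_hom_TFAE (f.stalkMap x).hom).out 0 2).1 h3
  rw [h, top_le_iff] at h2
  exact (IsLocalRing.maximalIdeal.isMaximal _).ne_top h2

open Classical in
/-- The data at a point of the special fibre. -/
theorem exists_data (V K Ω : Type u) [CommRing V] [IsDomain V]
    [IsDiscreteValuationRing V] [HenselianLocalRing V] [IsSepClosed (IsLocalRing.ResidueField V)]
    [CharZero (IsLocalRing.ResidueField V)] [Field K] [Algebra V K] [IsFractionRing V K]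
    [Field Ω] [Algebra K Ω] [IsSepClosure K Ω]
    {X : Scheme.{u}} (f : X ⟶ Spec (CommRingCat.of V))
    (hreg : ∀ x : ↥X, IsRegularLocalRing ↑(X.presheaf.stalk x))
    {J : Type} [Fintype J] (ξ : J → ↥X) (m : J → ℕ) (hm : ∀ i, 0 < m i)
    (x : ↥X) (hx : f.base x = IsLocalRing.closedPoint V)
    (hsnc : ∃ t : {i : J // ξ i ⤳ x} → ↑(X.presheaf.stalk x),
        (∃ (k : ℕ) (s : Fin k → ↑(X.presheaf.stalk x)),
          Ideal.span (Set.range t ∪ Set.range s) = IsLocalRing.maximalIdeal ↑(X.presheaf.stalk x) ∧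
          ((Nat.card {i : J // ξ i ⤳ x} + k : ℕ) : WithBot ℕ∞) = ringKrullDim ↑(X.presheaf.stalk x)) ∧
        (∀ i : {i : J // ξ i ⤳ x}, ∃ P : PrimeSpectrum ↑(X.presheaf.stalk x),
          (X.fromSpecStalk x).base P = ξ i.1 ∧ P.asIdeal = Ideal.span {t i}) ∧
        Ideal.map (f.stalkMap x).hom (IsLocalRing.maximalIdeal ↑((Spec (CommRingCat.of V)).presheaf.stalk (f.base x))) =
          Ideal.span {∏ i : {i : J // ξ i ⤳ x}, t i ^ m i.1})
    (Osh : Type u) [CommRing Osh] [IsLocalRing Osh] [Algebra ↑(X.presheaf.stalk x) Osh]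
    [IsLocalHom (algebraMap ↑(X.presheaf.stalk x) Osh)]
    [Hensel.IsStrictHenselization ↑(X.presheaf.stalk x) Osh] :
    ∃ (k : Type u) (_ : Field k) (_ : IsAlgClosed k) (_ : CharZero k) (_ : Algebra k V) (π : V)
      (b : Spec (CommRingCat.of Ω) ⟶ D k ℚ)
      (_ : IsPullback (cO V K Ω) b (toD k (pw π)) (Dm k (Nat.castAddMonoidHom ℚ)))
      (_ : Algebra V Osh) (_ : Algebra k Osh) (_ : IsScalarTower k V Osh) (r d : ℕ)
      (e : Fin (r + 1) ≃ {i : J // ξ i ⤳ x}) (T : Fin (r + 1) → Osh) (S : Fin d → Osh),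
      IsRegularLocalRing Osh ∧ Ideal.span (Set.range T ∪ Set.range S) = maximalIdeal Osh ∧
      ringKrullDim Osh = ((r + 1 + d : ℕ) : WithBot ℕ∞) ∧
      ∏ i, T i ^ m (e i).1 = algebraMap V Osh π ∧
      Hens2.specOf X x Osh ≫ f = Spec.map (CommRingCat.ofHom (algebraMap V Osh)) := by
  obtain ⟨t, ⟨d, s, hts, hdim⟩, -, hmap⟩ := hsnc
  have hc := one_le_card f ξ m x t hmap
  obtain ⟨r, hr⟩ : ∃ r, Nat.card {i : J // ξ i ⤳ x} = r + 1 := ⟨_, (Nat.sub_add_cancel hc).symm⟩
  let e : Fin (r + 1) ≃ {i : J // ξ i ⤳ x} := (Finite.equivFinOfCardEq hr).symm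
  obtain ⟨k, _, _, _, ⟨ik⟩⟩ := Groth.Agent.Sga7.H431.CoeffField.exists_coeffField V
  obtain ⟨π, hπ⟩ := IsDiscreteValuationRing.exists_irreducible V
  let aV : Algebra k V := ik.toAlgebra
  let _ : Algebra V Ω := ((algebraMap K Ω).comp (algebraMap V K)).toAlgebra
  have : IsScalarTower V K Ω := IsScalarTower.of_algebraMap_eq (fun _ => rfl)
  obtain ⟨b, hb⟩ := Groth.Agent.Sga7.H217.PuiseuxSq.isPullback_puiseux V k π hπ K Ω
  let aO : Algebra V ↑(X.presheaf.stalk x) := (vO f x).hom.toAlgebra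
  have hloc : IsLocalHom (algebraMap V ↑(X.presheaf.stalk x)) := isLocalHom_vO f x hx
  let aVO : Algebra V Osh :=
    ((algebraMap ↑(X.presheaf.stalk x) Osh).comp (vO f x).hom).toAlgebra
  let akO : Algebra k Osh := ((algebraMap V Osh).comp ik).toAlgebra
  have tow : IsScalarTower k V Osh := IsScalarTower.of_algebraMap_eq (fun _ => rfl)
  have hreg' := hreg x
  have h1 : Set.range (fun i => t (e i)) = Set.range t := e.surjective.range_comp t
  have h2 : ∏ i, t (e i) ^ m (e i).1 = ∏ i : {i : J // ξ i ⤳ x}, t i ^ m i.1 :=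
    Equiv.prod_comp e (fun i => t i ^ m i.1)
  obtain ⟨h3, T, S, hTS, hdim', hT⟩ := Groth.Agent.Sga7.H111.NormalForm.normal_form V π hπ
    ↑(X.presheaf.stalk x) Osh (fun i => t (e i)) s (by rw [h1]; exact hts)
    (by rw [← hdim, hr]) (fun i => m (e i).1) (fun i => hm _)
    ((max_vO f x hx).trans (by rw [hmap, h2]))
  refine ⟨k, inferInstance, inferInstance, inferInstance, aV, π, b, hb, aVO, akO, tow, r, d, e, T, S,
    h3, hTS, hdim', hT, ?_⟩
  change (Spec.map _ ≫ X.fromSpecStalk x) ≫ f = _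
  rw [Category.assoc, ← map_vO, ← Spec.map_comp]
  rfl

end Data

end Groth.Agent.Sga7.H748.LocData
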