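import Groth.Agent.Sga7.H748.Lattice
import Groth.Agent.Sga7.H763.GmPow

/-!
# Coordinates on a scheme over a torus with acyclic universal cover

`uL : Z ⟶ Spec k[ℤ^C]` with `E = Z ×_{k[ℤ^C]} k[ℚ^C]` having the cohomology of a point, `b` a basis of
`ℤ^C`.  Then `v : Z ⟶ Spec k[ℤ]` (the character `b 0`) and `z' : Z ⟶ Spec k[ℤ^r]` (the other ones)
satisfy: `Z ×_{v, k[ℤ]} k[ℚ] ⟶ Spec k[ℤ^r]` induces isomorphisms on cohomology.
-/

set_option autoImplicit false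
universe u
open CategoryTheory CategoryTheory.Limits AlgebraicGeometry Opposite Abelian
open scoped Groth.Agent.Etcore.EtInst
open Groth.Agent.Etcore.EtInst

namespace Groth.Agent.Sga7.H748.Local

open Groth.Agent.Etcore Groth.Agent.Etcore.HpullCalc
open Groth.Agent.Sga7.H763 Groth.Agent.Sga7.H763.HIso Groth.Agent.Sga7.H763.Pt
open Groth.Agent.Sga7.H763.Dia Groth.Agent.Sga7.H763.ToD Groth.Agent.Sga7.H763.GmPow
open Groth.Agent.Sga4h.StalkAcyc Groth.Agent.Sga4h.Acyc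
open Groth.Agent.Sga7.H748.Lattice

section Coord

variable {k : Type u} [Field k] {r : ℕ} {C : Type} [Fintype C]
  (b : Module.Basis (Fin (r + 1)) ℤ (C → ℤ))
  {Z E : Scheme.{u}} (uL : Z ⟶ D k (C → ℤ))

/-- the character `b 0` -/
noncomputable def vv : Z ⟶ D k ℤ := (uL ≫ Dm k (phi b).toAddMonoidHom) ≫ Dm k (c0 ℤ r)

/-- the other characters -/
noncomputable def zz : Z ⟶ D k (Fin r → ℤ) := (uL ≫ Dm k (phi b).toAddMonoidHom) ≫ Dm k (cs ℤ r)

theorem hC_zz [IsSepClosed k] {n : ℕ} (Cx : Ctx k n) [IsAffine Z] {a : E ⟶ Z}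
    {e : E ⟶ D k (C → ℚ)} (sq : IsPullback a e uL (Dm k ((Int.castAddHom ℚ).compLeft C)))
    (hE : HPt E n) : HC n (pullback.fst (vv b uL) (Dm k (Int.castAddHom ℚ)) ≫ zz b uL) := by
  set y : Z ⟶ D k (Fin (r + 1) → ℤ) := uL ≫ Dm k (phi b).toAddMonoidHom with hy
  have sq' : IsPullback a (e ≫ Dm k (phiQ b).toAddMonoidHom) y (Dm k (zqr (r + 1))) :=
    sq.paste_vert (isPullback_phi b k)
  have s1 := IsPullback.of_hasPullback y (Dm k (fz r))
  have hw : a ≫ y = ((e ≫ Dm k (phiQ b).toAddMonoidHom) ≫ Dm k (gz r)) ≫ Dm k (fz r) := by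
    rw [sq'.w, Category.assoc, Category.assoc, Category.assoc, Dm_comp k (gz r), gz_fz]
  have s2 : IsPullback (pullback.lift a ((e ≫ Dm k (phiQ b).toAddMonoidHom) ≫ Dm k (gz r)) hw)
      (e ≫ Dm k (phiQ b).toAddMonoidHom) (pullback.snd y (Dm k (fz r))) (Dm k (gz r)) := by
    refine IsPullback.of_right ?_ (pullback.lift_snd _ _ _) s1
    rw [pullback.lift_fst, Dm_comp, gz_fz]
    exact sq'
  have s3 := s2.paste_vert (sq2 k r)
  have i1 : IsAffine (pullback y (Dm k (fz r))) :=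
    isAffine_of_isAffineHom (pullback.fst y (Dm k (fz r)))
  have h1 := hC_pow Cx r _ _ _ s3 hE
  have h2 : pullback.snd y (Dm k (fz r)) ≫ Dm k (AddMonoidHom.inr ℚ (Fin r → ℤ)) =
      pullback.fst y (Dm k (fz r)) ≫ y ≫ Dm k (cs ℤ r) := by
    have h : (fz r).comp (cs ℤ r) = AddMonoidHom.inr ℚ (Fin r → ℤ) := by
      ext z i <;> simp [fz, cs]
    rw [← h, ← Dm_comp, ← Category.assoc, ← pullback.condition, Category.assoc]
  have s4 := s1.paste_vert (sq1 k r)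
  have h3 : s4.isoPullback.hom ≫ pullback.fst (y ≫ Dm k (c0 ℤ r)) (Dm k zq) =
      pullback.fst y (Dm k (fz r)) := s4.isoPullback_hom_fst
  have h4 : s4.isoPullback.hom ≫ (pullback.fst (y ≫ Dm k (c0 ℤ r)) (Dm k zq) ≫ y ≫ Dm k (cs ℤ r)) =
      pullback.fst y (Dm k (fz r)) ≫ y ≫ Dm k (cs ℤ r) := by
    rw [← Category.assoc, h3]
  exact (hC_isIso_comp_iff s4.isoPullback.hom _).1 ((hC_congr (h4.trans h2.symm)).2 h1)

omit [Fintype C] in
theorem vv_pow (m : C → ℕ) (g : ℕ) (hb : (fun i => (m i : ℤ)) = (g : ℤ) • b 0) :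
    vv b uL ≫ Dm k (AddMonoidHom.mulLeft (g : ℤ)) = uL ≫ Dm k (muZ m) := by
  rw [vv, Category.assoc, Category.assoc, Dm_comp, Dm_comp]
  congr 2
  refine AddMonoidHom.ext_int ?_
  change phi b (Fin.cons ((g : ℤ) * 1) 0) = zmultiplesHom _ _ 1
  rw [zmultiplesHom_apply, one_zsmul, hb, phi_apply, Fin.sum_univ_succ]
  simp

end Coord

end Groth.Agent.Sga7.H748.Local
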