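import Groth.Agent.Sga7.H748.EtaleNil
import Groth.Agent.Sga7.H748.GalPush
import Groth.Agent.Sga4A.IntegralSection
import Groth.Agent.S0655

/-!
# Unipotence of an automorphism of the geometric generic fibre, from local information

`f : X ⟶ Spec V` proper, `V` henselian local, `Y ⟶ W ⟶ X` with `Y ⟶ W` integral, `τ : Y ⟶ Y` over `W`.
Suppose that locally at the geometric points of the closed fibre `H^q(Y_A, ℤ/m)` is generated by classes
from `W_A` and vanishes for `q ≥ M`.  Then `(τ^* - 1)^{min(q + 1, M)} = 0` on `H^q(Y, ℤ/m)`.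
-/

set_option autoImplicit false
universe u
open CategoryTheory CategoryTheory.Limits AlgebraicGeometry Opposite Abelian
open scoped Groth.Agent.Etcore.EtInst
open Groth.Agent.Etcore.EtInst

namespace Groth.Agent.Sga7.H748.Main

open Groth.Agent.Etcore Groth.Agent.Etcore.HQ Groth.Agent.Etcore.HpullCalc
open Groth.Agent.Sga7.H748.LerayNil Groth.Agent.Sga7.H748.GalPush Groth.Agent.Sga7.H748.EtaleNil
open Groth.Agent.EtpbcB.StrictLoc

attribute [local instance] pfl

/-- The local input at a geometric point `ξ` of `X`. -/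
def LocInput {X W Y : Scheme.{u}} (j : W ⟶ X) (h : Y ⟶ W) (m M : ℕ) {Ω : Type u} [Field Ω]
    [IsSepClosed Ω] (ξ : Spec (CommRingCat.of Ω) ⟶ X) : Prop :=
  ∃ (WA YA : Scheme.{u}) (a : WA ⟶ W) (fA : WA ⟶ Spec (Osh ξ)) (b : YA ⟶ Y) (h' : YA ⟶ WA),
    IsPullback a fA j (toBase ξ) ∧ IsPullback b h' h a ∧
    (∀ q, Function.Surjective (hp h' (EtCoh.const WA (ZMod m)) q)) ∧
    (∀ q, M ≤ q → Subsingleton (HH YA (EtCoh.const YA (ZMod m)) q))

section Local

variable {X W Y : Scheme.{u}} (j : W ⟶ X) (h : Y ⟶ W) [IsIntegralHom h] {WA YA : Scheme.{u}}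
  {a : WA ⟶ W} {b : YA ⟶ Y} {h' : YA ⟶ WA} (sq : IsPullback b h' h a) (m : ℕ)

theorem surjective_hp_of_iso {S T : Scheme.{u}} (g : T ⟶ S) {G G' : EtCoh.Ab S} (e : G ≅ G') (q : ℕ)
    (hs : Function.Surjective (hp g G' q)) : Function.Surjective (hp g G q) := by
  intro y
  obtain ⟨x, hx⟩ := hs (HHmap ((EtCoh.pull g).map e.hom) q y)
  refine ⟨HHmap e.inv q x, ?_⟩
  rw [hp_map, hx, ← HHmap_comp, ← Functor.map_comp, e.hom_inv_id, CategoryTheory.Functor.map_id,
    HHmap_id]

include sq in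
theorem surjective_α (q : ℕ)
    (hs : Function.Surjective (hp h' (EtCoh.const WA (ZMod m)) q)) :
    Function.Surjective (HQ.map (α h (ZMod m)) a q) := by
  have i0 : IsIntegralHom h' := MorphismProperty.of_isPullback sq inferInstance
  have i1 : PreservesFiniteColimits (EtCoh.push h') := Sga4A.EtSplit.preservesFiniteColimits_push h'
  have i2 : IsIso (EtCoh.baseChange0 h a h' b sq.w (EtCoh.const Y (ZMod m))) :=
    Groth.Agent.S0655.result h a h' b sq (EtCoh.const Y (ZMod m))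
  refine surjective_map h a h' b sq.w (α h (ZMod m)) q ?_
  exact surjective_hp_of_iso h' (EtCore.pullConst a (ZMod m)) q hs

include sq in
theorem subsingleton_HQ (q : ℕ) (hs : Subsingleton (HH YA (EtCoh.const YA (ZMod m)) q)) :
    Subsingleton (HQ ((EtCoh.push h).obj (EtCoh.const Y (ZMod m))) a q) := by
  have i0 : IsIntegralHom h' := MorphismProperty.of_isPullback sq inferInstance
  have i1 : PreservesFiniteColimits (EtCoh.push h') := Sga4A.EtSplit.preservesFiniteColimits_push h'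
  have i2 : IsIso (EtCoh.baseChange0 h a h' b sq.w (EtCoh.const Y (ZMod m))) :=
    Groth.Agent.S0655.result h a h' b sq (EtCoh.const Y (ZMod m))
  have h1 : Subsingleton (HH YA ((EtCoh.pull b).obj (EtCoh.const Y (ZMod m))) q) :=
    (HHmap_bijective (EtCore.pullConst b (ZMod m)).hom q).1.subsingleton
  exact (edgeQ_bijective h a h' b sq.w (EtCoh.const Y (ZMod m)) q).1.subsingleton

omit [IsIntegralHom h] in
/-- `T - 1` acts as zero if the classes come from below. -/
theorem map_T_sub_one_eq_zero (τ : Y ⟶ Y) (w : τ ≫ h = h) (q : ℕ)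
    (hs : Function.Surjective (HQ.map (α h (ZMod m)) a q))
    (x : HQ ((EtCoh.push h).obj (EtCoh.const Y (ZMod m))) a q) :
    HQ.map (T h (ZMod m) τ w - 𝟙 _) a q x = 0 := by
  obtain ⟨z, rfl⟩ := hs x
  have e : α h (ZMod m) ≫ (T h (ZMod m) τ w - 𝟙 _) = 0 := by
    rw [Preadditive.comp_sub, α_T, Category.comp_id, sub_self]
  rw [HQ.map_apply, HQ.map_apply, ← HHmap_comp, ← Functor.map_comp, e, Functor.map_zero, HHmap_zero]

end Local

section Global

variable {V : Type u} [CommRing V] [HenselianLocalRing V] {X W Y : Scheme.{u}}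
  (f : X ⟶ Spec (CommRingCat.of V)) [IsProper f] (j : W ⟶ X) [QuasiCompact j] [QuasiSeparated j]
  (h : Y ⟶ W) [IsIntegralHom h] (τ : Y ⟶ Y) (w : τ ≫ h = h) (m : ℕ) (M : ℕ)

/-- `T - 1` in degrees `< M`, the identity in degrees `≥ M`. -/
noncomputable def psi (q : ℕ) : (EtCoh.push h).obj (EtCoh.const Y (ZMod m)) ⟶
    (EtCoh.push h).obj (EtCoh.const Y (ZMod m)) :=
  if q < M then T h (ZMod m) τ w - 𝟙 _ else 𝟙 _

theorem stalk_psi {Ω : Type u} [Field Ω] [IsSepClosed Ω] (ξ : Spec (CommRingCat.of Ω) ⟶ X)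
    (hloc : LocInput j h m M ξ) (q : ℕ) :
    (EtCoh.stalk ξ).map (((EtCoh.push j).rightDerived q).map (psi h τ w m M q)) = 0 := by
  obtain ⟨WA, YA, a, fA, b, h', sqA, sq, hs, hv⟩ := hloc
  apply StalkZero.stalk_map_rightDerived_eq_zero j ξ sqA
  intro x
  by_cases hq : q < M
  · rw [psi, if_pos hq]
    exact map_T_sub_one_eq_zero h m τ w q (surjective_α h sq m q (hs q)) x
  · have := subsingleton_HQ h sq m q (hv q (not_lt.1 hq))
    exact Subsingleton.elim _ _

omit [IsIntegralHom h] in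
theorem killedBy_pushConst (m : ℕ) :
    EtCoh.KilledBy m ((EtCoh.push h).obj (EtCoh.const Y (ZMod m))) :=
  EtpbcB.TorsionBasic.killedBy_map (EtCoh.push h) m _
    (EtpbcB.TorsionBasic.killedBy_const (ZMod m) m fun x => by
      rw [nsmul_eq_mul, ZMod.natCast_self, zero_mul])

/-- `HHmap` as an endomorphism. -/
noncomputable def E {X : Scheme.{u}} {F : EtCoh.Ab X} (φ : F ⟶ F) (n : ℕ) : AddMonoid.End (HH X F n) :=
  HHmap φ n

theorem E_apply {X : Scheme.{u}} {F : EtCoh.Ab X} (φ : F ⟶ F) (n : ℕ) (x : HH X F n) :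
    E φ n x = HHmap φ n x := rfl

theorem E_comp {X : Scheme.{u}} {F : EtCoh.Ab X} (φ ψ : F ⟶ F) (n : ℕ) :
    E (φ ≫ ψ) n = E ψ n * E φ n := by
  ext x
  exact HHmap_comp φ ψ n x

theorem E_id {X : Scheme.{u}} {F : EtCoh.Ab X} (n : ℕ) : E (𝟙 F) n = 1 := by
  ext x
  exact HHmap_id F n x

omit [IsIntegralHom h] in
theorem E_compF_psi (n q : ℕ) :
    E (compF (psi h τ w m M) q) n = (E (T h (ZMod m) τ w - 𝟙 _) n) ^ (min (q + 1) M) := by
  induction q with
  | zero =>
    change E (psi h τ w m M 0) n = _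
    rcases Nat.eq_zero_or_pos M with rfl | hM
    · rw [psi, if_neg (lt_irrefl 0), E_id, Nat.min_zero, pow_zero]
    · rw [psi, if_pos hM, zero_add, min_eq_left hM, pow_one]
  | succ q ih =>
    change E (psi h τ w m M (q + 1) ≫ compF (psi h τ w m M) q) n = _
    rw [E_comp, ih]
    by_cases hq : q + 1 < M
    · rw [psi, if_pos hq, ← pow_succ, min_eq_left hq.le, min_eq_left (by omega)]
    · rw [psi, if_neg hq, E_id, mul_one, min_eq_right (by omega), min_eq_right (by omega)]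

/-- The action of an endomorphism of `Y`. -/
noncomputable def actE (M' : Type) [AddCommGroup M'] (τ : Y ⟶ Y) (q : ℕ) :
    AddMonoid.End (HH Y (EtCoh.const Y M') q) := act M' τ q

omit [IsIntegralHom h] in
theorem edge_E_pow (q k : ℕ) (x : HH W ((EtCoh.push h).obj (EtCoh.const Y (ZMod m))) q) :
    edge h (EtCoh.const Y (ZMod m)) q ((E (T h (ZMod m) τ w - 𝟙 _) q ^ k) x) =
      ((actE (ZMod m) τ q - 1) ^ k) (edge h (EtCoh.const Y (ZMod m)) q x) := by
  induction k generalizing x with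
  | zero => rfl
  | succ k ih =>
    rw [pow_succ, pow_succ]
    change edge h _ q ((E (T h (ZMod m) τ w - 𝟙 _) q ^ k) (E (T h (ZMod m) τ w - 𝟙 _) q x)) =
      ((actE (ZMod m) τ q - 1) ^ k) ((actE (ZMod m) τ q - 1) (edge h _ q x))
    rw [ih]
    congr 1
    have h1 : E (T h (ZMod m) τ w - 𝟙 _) q x = HHmap (T h (ZMod m) τ w) q x - x := by
      rw [E_apply, HHmap_apply, HHmap_apply, sub_eq_add_neg, Ext.mk₀_add, Ext.comp_add,
        Ext.mk₀_neg, Ext.comp_neg, Ext.comp_mk₀_id, ← sub_eq_add_neg]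
    rw [h1, map_sub, edge_T]
    rfl

include w in
/-- **Unipotence of bounded exponent.** -/
theorem actE_sub_one_pow_eq_zero (hm : 0 < m)
    (hloc : ∀ (Ω : Type u) [Field Ω] [IsSepClosed Ω] (ξ : Spec (CommRingCat.of Ω) ⟶ X),
      (ξ ≫ f) default = IsLocalRing.closedPoint V → LocInput j h m M ξ) (q : ℕ) :
    (actE (ZMod m) τ q - 1) ^ (min (q + 1) M) = 0 := by
  have i1 : PreservesFiniteColimits (EtCoh.push h) := Sga4A.EtSplit.preservesFiniteColimits_push h
  ext y
  obtain ⟨x, rfl⟩ := (edge_bijective h (EtCoh.const Y (ZMod m)) q).2 y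
  have key : HHmap (compF (psi h τ w m M) q) q x = 0 :=
    HHmap_compF_eq_zero f j hm _ (killedBy_pushConst h m) _
      (fun q Ω _ _ ξ hξ => stalk_psi j h τ w m M ξ (hloc Ω ξ hξ) q) q x
  rw [← edge_E_pow h τ w, ← E_compF_psi, E_apply, key, map_zero]
  rfl

end Global

end Groth.Agent.Sga7.H748.Main
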