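import Groth.Agent.Sga7.H748.Local
import Groth.Agent.Sga7.H748.Glue
import Groth.Agent.Sga7.H198.TorusSurj

/-!
# Surjectivity of `H^q(A ⊗ K', ℤ/n) → H^q(A ⊗ Ω, ℤ/n)`

`A` a `V`-algebra with `π = ∏ T_i ^ m_i` in `A` such that `Spec A ×_{k[ℕ^C]} k[ℚ^C]` has the cohomology of
a point, `K'` contains the `N`-th roots of the elements of `K`, and `gcd m ∣ N`.
-/

set_option autoImplicit false
universe u
open CategoryTheory CategoryTheory.Limits AlgebraicGeometry Opposite Abelian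
open scoped Groth.Agent.Etcore.EtInst
open Groth.Agent.Etcore.EtInst

namespace Groth.Agent.Sga7.H748.Surj

open Groth.Agent.Etcore Groth.Agent.Etcore.HpullCalc
open Groth.Agent.Sga7.H763.HIso Groth.Agent.Sga7.H763.Pt
open Groth.Agent.Sga7.H763.Dia Groth.Agent.Sga7.H763.ToD Groth.Agent.Sga7.H763.GmPow
open Groth.Agent.Sga4h.StalkAcyc Groth.Agent.Sga4h.Acyc
open Groth.Agent.Sga7.H748.Lattice Groth.Agent.Sga7.H748.Local Groth.Agent.Sga7.H748.Geo
open Groth.Agent.Sga7.H748.Glue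

section Mono

variable (k : Type u) [Field k] {A : Type u} [CommRing A] [Algebra k A] {C : Type} [Fintype C]
  (T : C → A)

/-- `Spec A ⟶ Spec k[ℕ^C]` -/
noncomputable abbrev tA : Spec (CommRingCat.of A) ⟶ D k (C → ℕ) := toD k (mpw T)

/-- `Spec A[1/∏ T_i]` -/
noncomputable abbrev ZA : Scheme.{u} := pullback (tA k T) (Dm k (nzC C))

/-- the universal cover -/
noncomputable abbrev EA : Scheme.{u} :=
  pullback (tA k T) (Dm k ((Nat.castAddMonoidHom ℚ).compLeft C))

theorem isPullback_EA : IsPullback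
    (pullback.lift (f := tA k T) (g := Dm k (nzC C)) (pullback.fst (tA k T)
      (Dm k ((Nat.castAddMonoidHom ℚ).compLeft C))) (pullback.snd (tA k T)
      (Dm k ((Nat.castAddMonoidHom ℚ).compLeft C)) ≫ Dm k ((Int.castAddHom ℚ).compLeft C)) (by
        rw [pullback.condition, Category.assoc, Dm_comp]
        congr 2))
    (pullback.snd (tA k T) (Dm k ((Nat.castAddMonoidHom ℚ).compLeft C)))
    (pullback.snd (tA k T) (Dm k (nzC C))) (Dm k ((Int.castAddHom ℚ).compLeft C)) := by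
  have e : ((Int.castAddHom ℚ).compLeft C).comp (nzC C) = (Nat.castAddMonoidHom ℚ).compLeft C := by
    ext
    simp
  refine IsPullback.of_right ?_ (pullback.lift_snd _ _ _) (IsPullback.of_hasPullback _ _)
  rw [pullback.lift_fst, Dm_comp, e]
  exact IsPullback.of_hasPullback _ _

variable (m : C → ℕ)

theorem tA_muN : tA k T ≫ Dm k (muN m) = toD k (pw (∏ i, T i ^ m i)) := by
  rw [tA, toD_Dm]
  congr 1
  refine MonoidHom.ext fun x => ?_
  change mpw T (Multiplicative.ofAdd (x.toAdd • m)) = _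
  rw [mpw_ofAdd]
  change _ = (∏ i, T i ^ m i) ^ x.toAdd
  rw [← Finset.prod_pow]
  exact Finset.prod_congr rfl fun i _ => by rw [Pi.smul_apply, smul_eq_mul, mul_comm, pow_mul]

/-- `Spec A[1/∏ T_i] = Spec A[1/π]`, `π = ∏ T_i ^ m_i` -/
theorem sqZ (hm : ∀ i, 0 < m i) : IsPullback (pullback.fst (tA k T) (Dm k (nzC C)))
    (pullback.snd (tA k T) (Dm k (nzC C)) ≫ Dm k (muZ m)) (toD k (pw (∏ i, T i ^ m i)))
    (Dm k (Nat.castAddMonoidHom ℤ)) := by
  rw [← tA_muN]
  exact (IsPullback.of_hasPullback _ _).paste_vert (isPullback_m k m hm)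

end Mono

variable {V K Ω : Type u} [CommRing V] [Field K] [Algebra V K] [Field Ω] [Algebra K Ω]
  (K' : IntermediateField K Ω) {k : Type u} [Field k] [IsAlgClosed k] [CharZero k] [Algebra k V]
  (π : V) {b : Spec (CommRingCat.of Ω) ⟶ D k ℚ}

theorem surjective_local
    (hb : IsPullback (cO V K Ω) b (toD k (pw π)) (Dm k (Nat.castAddMonoidHom ℚ)))
    {n : ℕ} (Cx : Ctx k n) {A : Type u} [CommRing A] [Algebra V A] [Algebra k A]
    [IsScalarTower k V A] {r : ℕ} {C : Type} [Fintype C] (T : C → A) (m : C → ℕ)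
    (hm : ∀ i, 0 < m i) (hπ : ∏ i, T i ^ m i = algebraMap V A π) (hE : HPt (EA k T) n)
    (bs : Module.Basis (Fin (r + 1)) ℤ (C → ℤ)) (g : ℕ) (hg : 0 < g)
    (hbs : (fun i => (m i : ℤ)) = (g : ℤ) • bs 0) (N' : ℕ) (hN' : 0 < N')
    (hK' : ∀ (y : Ω) (a : K), y ^ (g * N') = algebraMap K Ω a → y ∈ K')
    (c : Spec (CommRingCat.of A) ⟶ Spec (CommRingCat.of V))
    (hc : c = Spec.map (CommRingCat.ofHom (algebraMap V A))) (q : ℕ) :
    Function.Surjective (HC.HC (ZMod n) (hC K' c) q) := by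
  have e1 : c ≫ toD k (pw π) = toD k (pw (∏ i, T i ^ m i)) := by
    rw [hc, hπ]
    refine (map_toD k (IsScalarTower.toAlgHom k V A) (pw π)).trans ?_
    congr 1
    ext
    simp
  have hZ := sqZ k T m hm
  rw [← e1] at hZ
  have hNN : 0 < g * N' := Nat.mul_pos hg hN'
  let uL := pullback.snd (tA k T) (Dm k (nzC C))
  have hv : vv bs uL ≫ Dm k (AddMonoidHom.mulLeft (g : ℤ)) = uL ≫ Dm k (muZ m) := vv_pow bs uL m g hbs
  have i1 : IsAffine (ZA k T) := isAffine_of_isAffineHom (pullback.fst (tA k T) (Dm k (nzC C)))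
  have H := hC_zz bs uL Cx (isPullback_EA k T) hE
  have sY := isPullback_yZ π hb c hZ
  have sY' := IsPullback.of_hasPullback (uL ≫ Dm k (muZ m))
    (Dm k (AddMonoidHom.mulLeft ((g * N' : ℕ) : ℤ)))
  refine surjective_HC_hC K' π hb c hZ (g * N') hNN sY' hK' (ZMod n) q ?_
  refine Groth.Agent.Sga7.H198.TorusSurj.surjective_HC hg hN' (vv bs uL) (zz bs uL) H
    (yZ := yZ π hb c hZ) (yQ := pullback.snd c (cO V K Ω) ≫ b) ?_ (y'Z := pullback.fst _ _)
    (s := pullback.snd _ _) ?_ _ (pO_yZ π hb c hZ (g * N') hNN sY') (lam (g * N')) ?_ ?_ q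
  · rw [hv]
    exact sY
  · rw [hv]
    exact sY'
  · rw [lam_apply]
    simp
  · exact pO_s π hb c hZ (g * N') hNN sY'

end Groth.Agent.Sga7.H748.Surj
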